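import Cfsg.Agent.Lib.MTwelveCent.Centre

/-!
The numbers of pairs of involutions of given classes whose product has a given involution among its
powers.
-/
set_option autoImplicit false
set_option maxRecDepth 100000

namespace CfsgLib.MTwelveCent

attribute [local irreducible] mulN typ cntN inS inQ all192

theorem powN_zero (p : ℕ) : powN p 0 = 0 := by rw [powN]

/-- an involution among the powers of `r` is the middle power -/
theorem involution_in_powers {G : Type*} [Group G] [Finite G] {r w : G} (hw : w * w = 1) (hw1 : w ≠ 1)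
    (h : w ∈ Subgroup.zpowers r) : ∃ m, orderOf r = 2 * m ∧ w = r ^ m := by
  obtain ⟨k, hk⟩ := (mem_powers_iff_mem_zpowers.2 h)
  change r ^ k = w at hk
  rw [← pow_mod_orderOf] at hk
  have hlt : k % orderOf r < orderOf r := Nat.mod_lt _ (orderOf_pos r)
  have hd : orderOf r ∣ k % orderOf r + k % orderOf r :=
    orderOf_dvd_of_pow_eq_one (by rw [pow_add, hk, hw])
  have h0 : k % orderOf r ≠ 0 := fun e => hw1 (by rw [← hk, e, pow_zero])
  obtain ⟨q, hq⟩ := hd
  have hq1 : q = 1 := by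
    rcases q with _ | _ | q
    · simp at hq; omega
    · rfl
    · exfalso
      have : orderOf r * 2 ≤ orderOf r * (q + 1 + 1) := Nat.mul_le_mul_left _ (by omega)
      omega
  rw [hq1, mul_one] at hq
  exact ⟨k % orderOf r, by omega, hk.symm⟩

theorem involution_in_powers_unique {G : Type*} [Group G] [Finite G] {r w w' : G} (hw : w * w = 1)
    (hw1 : w ≠ 1) (hw' : w' * w' = 1) (hw1' : w' ≠ 1) (h : w ∈ Subgroup.zpowers r)
    (h' : w' ∈ Subgroup.zpowers r) : w = w' := by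
  obtain ⟨m, hm, rfl⟩ := involution_in_powers hw hw1 h
  obtain ⟨m', hm', rfl⟩ := involution_in_powers hw' hw1' h'
  congr 1
  omega

/-- two involutions whose product has odd order are conjugate -/
theorem isConj_of_odd {G : Type*} [Group G] {x y : G} (hx : x * x = 1) (hy : y * y = 1) {n : ℕ}
    (hn : Odd n) (h : (x * y) ^ n = 1) : IsConj x y := by
  obtain ⟨k, rfl⟩ := hn
  have hx' : x⁻¹ = x := inv_eq_of_mul_eq_one_right hx
  have hy' : y⁻¹ = y := inv_eq_of_mul_eq_one_right hy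
  have hflip : ∀ j : ℕ, x * (x * y) ^ j = ((x * y) ^ j)⁻¹ * x := by
    intro j
    have h1 : MulAut.conj x (x * y) = (x * y)⁻¹ := by
      rw [MulAut.conj_apply, ← mul_assoc x x, hx, one_mul, hx', mul_inv_rev, hx', hy']
    have h2 := map_pow (MulAut.conj x) (x * y) j
    rw [h1, inv_pow, MulAut.conj_apply] at h2
    exact mul_inv_eq_iff_eq_mul.1 h2
  refine isConj_iff.2 ⟨((x * y) ^ (k + 1))⁻¹, ?_⟩
  rw [inv_inv, ← hflip (k + 1), mul_assoc, ← pow_add,
    show k + 1 + (k + 1) = (2 * k + 1) + 1 by omega, pow_succ, h, one_mul, ← mul_assoc, hx, one_mul]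

namespace Model

variable {G : Type*} [Group G] {t : G} (M : Model G t)

theorem el_powN (p : Fin 192) : ∀ k : ℕ, ∃ r : Fin 192, r.val = powN p k ∧ M.el r = M.el p ^ k
  | 0 => ⟨0, by rw [powN_zero]; rfl, by rw [pow_zero, M.map_zero]⟩
  | k + 1 => by
    obtain ⟨r, hr, he⟩ := el_powN p k
    exact ⟨fmul r p, by rw [fmul_val, hr, powN], by rw [M.map_mul, he, pow_succ]⟩

theorem mem_zpowers_el [Finite G] {p w : Fin 192} :
    M.el w ∈ Subgroup.zpowers (M.el p) ↔ hit p w = true := by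
  rw [hit, List.any_eq_true]
  constructor
  · intro h
    obtain ⟨n, hn⟩ := mem_powers_iff_mem_zpowers.2 h
    change M.el p ^ n = M.el w at hn
    have key : ∀ n : ℕ, ∃ k < 9, M.el p ^ n = M.el p ^ k := by
      intro n
      induction n with
      | zero => exact ⟨0, by norm_num, rfl⟩
      | succ n ih =>
        obtain ⟨k, hk, e⟩ := ih
        by_cases h8 : k < 8
        · exact ⟨k + 1, by omega, by rw [pow_succ, e, pow_succ]⟩
        · have hk8 : k = 8 := by omega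
          subst hk8
          have hp := all192_spec powers_ok p.isLt
          simp only [List.any_eq_true, List.mem_range, beq_iff_eq] at hp
          obtain ⟨k', hk', he⟩ := hp
          obtain ⟨r, hr, hre⟩ := M.el_powN p k'
          obtain ⟨r8, hr8, hre8⟩ := M.el_powN p 8
          refine ⟨k', hk', ?_⟩
          rw [pow_succ, e, ← hre, ← hre8, ← M.map_mul, M.el_eq_iff, fmul_val, hr8, hr]
          exact he.symm
    obtain ⟨k, hk, e⟩ := key n
    obtain ⟨r, hr, hre⟩ := M.el_powN p k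
    refine ⟨k, List.mem_range.2 hk, ?_⟩
    exact beq_iff_eq.2 (hr.symm.trans (congrArg Fin.val (M.inj (hre.trans (e.symm.trans hn)))))
  · rintro ⟨k, -, hk⟩
    obtain ⟨r, hr, hre⟩ := M.el_powN p k
    have : r = w := Fin.ext (hr.trans (eq_of_beq hk))
    rw [← this, hre]
    exact Subgroup.npow_mem_zpowers _ k

include M in
theorem commute_t_of_pair {u v : G} (hu : u * u = 1) (hv : v * v = 1)
    (h : t ∈ Subgroup.zpowers (u * v)) : u * t = t * u ∧ v * t = t * v :=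
  commute_of_mem_zpowers_mul hu hv M.mul_self h

end Model

theorem sq_one_of_isConj {G : Type*} [Group G] {x y : G} (h : IsConj x y) (hx : x * x = 1) : y * y = 1 := by
  obtain ⟨g, rfl⟩ := isConj_iff.1 h
  exact conj_sq_one hx g

namespace Pattern

variable {G : Type*} [Group G] [Finite G] {t : G} {M : Model G t} {b : Bool}

theorem count_t (hp : Pattern M b) :
    Nat.card {p : G × G // IsConj t p.1 ∧ IsConj (M.el 184) p.2 ∧ t ∈ Subgroup.zpowers (p.1 * p.2)} =
      (Finset.univ.filter fun p : Fin 192 × Fin 192 =>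
        (k1 b p.1.val && k2 b p.2.val && hit (mulN p.1 p.2) 7) = true).card := by
  classical
  rw [← Fintype.card_subtype, ← Nat.card_eq_fintype_card]
  symm
  have hiff : ∀ i j : Fin 192, t ∈ Subgroup.zpowers (M.el i * M.el j) ↔ hit (mulN i j) 7 = true := by
    intro i j
    have h := M.mem_zpowers_el (p := fmul i j) (w := 7)
    rw [M.map_mul, M.map_seven] at h
    exact h
  let f : {p : Fin 192 × Fin 192 // (k1 b p.1.val && k2 b p.2.val && hit (mulN p.1 p.2) 7) = true} →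
      {p : G × G // IsConj t p.1 ∧ IsConj (M.el 184) p.2 ∧ t ∈ Subgroup.zpowers (p.1 * p.2)} := fun p =>
    ⟨(M.el p.1.1, M.el p.1.2), by
      have h := p.2
      simp only [Bool.and_eq_true] at h
      exact ⟨(hp.first _).2 h.1.1, (hp.second _).2 h.1.2, (hiff _ _).2 h.2⟩⟩
  refine Nat.card_congr (Equiv.ofBijective f ⟨fun p q h => ?_, fun p => ?_⟩)
  · have h' := congrArg Subtype.val h
    exact Subtype.ext (Prod.ext (M.inj (congrArg Prod.fst h')) (M.inj (congrArg Prod.snd h')))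
  · obtain ⟨⟨u, v⟩, hu, hv, hz⟩ := p
    obtain ⟨hut, hvt⟩ := M.commute_t_of_pair (sq_one_of_isConj hu M.mul_self)
      (sq_one_of_isConj hv M.el184_sq) hz
    obtain ⟨i, rfl⟩ := (M.mem_iff u).1 hut
    obtain ⟨j, rfl⟩ := (M.mem_iff v).1 hvt
    refine ⟨⟨(i, j), ?_⟩, rfl⟩
    simp only [Bool.and_eq_true]
    exact ⟨⟨(hp.first i).1 hu, (hp.second j).1 hv⟩, (hiff i j).1 hz⟩

theorem mem_cU_of_pair (hp : Pattern M b) {u v : G} (hu : IsConj t u) (hv : IsConj (M.el 184) v)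
    (h : M.el 184 ∈ Subgroup.zpowers (u * v)) : u ∈ M.cU ∧ v ∈ M.cU := by
  obtain ⟨h1, h2⟩ := commute_of_mem_zpowers_mul (sq_one_of_isConj hu M.mul_self)
    (sq_one_of_isConj hv M.el184_sq) M.el184_sq h
  exact ⟨M.mem_cU.2 h1, M.mem_cU.2 h2⟩

theorem count_c_small (hp : Pattern M false) (hU : Nat.card M.cU = 16) :
    Nat.card {p : G × G // IsConj t p.1 ∧ IsConj (M.el 184) p.2 ∧
      M.el 184 ∈ Subgroup.zpowers (p.1 * p.2)} = 3 := by
  classical
  rw [← countF_c, ← Fintype.card_subtype, ← Nat.card_eq_fintype_card]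
  symm
  have hUD : M.dSub = M.cU := Subgroup.eq_of_le_of_card_ge M.dSub_le (by rw [hU, M.card_dSub])
  have hiff : ∀ i j : Fin 192, M.el 184 ∈ Subgroup.zpowers (M.el i * M.el j) ↔
      hit (mulN i j) 184 = true := by
    intro i j
    have h := M.mem_zpowers_el (p := fmul i j) (w := 184)
    rw [M.map_mul] at h
    exact h
  let f : {p : Fin 192 × Fin 192 // (inD p.1.val && inD p.2.val && k1 false p.1.val &&
      k2 false p.2.val && hit (mulN p.1 p.2) 184) = true} →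
      {p : G × G // IsConj t p.1 ∧ IsConj (M.el 184) p.2 ∧ M.el 184 ∈ Subgroup.zpowers (p.1 * p.2)} :=
    fun p => ⟨(M.el p.1.1, M.el p.1.2), by
      have h := p.2
      simp only [Bool.and_eq_true] at h
      exact ⟨(hp.first _).2 h.1.1.2, (hp.second _).2 h.1.2, (hiff _ _).2 h.2⟩⟩
  refine Nat.card_congr (Equiv.ofBijective f ⟨fun p q h => ?_, fun p => ?_⟩)
  · have h' := congrArg Subtype.val h
    exact Subtype.ext (Prod.ext (M.inj (congrArg Prod.fst h')) (M.inj (congrArg Prod.snd h')))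
  · obtain ⟨⟨u, v⟩, hu, hv, hz⟩ := p
    obtain ⟨hU1, hU2⟩ := hp.mem_cU_of_pair hu hv hz
    obtain ⟨i, hi, rfl⟩ := (hUD.symm ▸ hU1 : u ∈ M.dSub)
    obtain ⟨j, hj, rfl⟩ := (hUD.symm ▸ hU2 : v ∈ M.dSub)
    refine ⟨⟨(i, j), ?_⟩, rfl⟩
    simp only [Bool.and_eq_true]
    exact ⟨⟨⟨⟨hi, hj⟩, (hp.first i).1 hu⟩, (hp.second j).1 hv⟩, (hiff i j).1 hz⟩

/-- the involutions conjugate to the image of `t` lift to one element of each class -/
theorem lift_mid (hp : Pattern M b) {N : ℕ} (hX : MidFacts M.cX N) {x : M.cX} (hx : IsMid x) :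
    ∃ u v : M.cU, M.pr u = x ∧ M.pr v = x ∧ IsConj t (u : G) ∧ IsConj (M.el 184) (v : G) ∧
      (v : G) = u * M.el 184 := by
  obtain ⟨y, hy⟩ := isConj_iff.1 (hX.conj _ _ hp.isMid_tX hx)
  obtain ⟨g, rfl⟩ := QuotientGroup.mk'_surjective M.cZ y
  have hg : (g : G) * M.el 184 = M.el 184 * g := M.mem_cU.1 g.2
  have hu : M.pr (g * ⟨t, M.t_mem_cU⟩ * g⁻¹) = x := by
    rw [← hy, _root_.map_mul, _root_.map_mul, map_inv]; rfl
  refine ⟨g * ⟨t, M.t_mem_cU⟩ * g⁻¹, g * ⟨t, M.t_mem_cU⟩ * g⁻¹ * M.cC, hu, ?_,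
    isConj_iff.2 ⟨g, rfl⟩, ?_, rfl⟩
  · refine Eq.trans ?_ hu
    refine M.pr_eq_iff.2 (Or.inr ?_)
    show (g : G) * t * (g : G)⁻¹ = (g : G) * t * (g : G)⁻¹ * M.el 184 * M.el 184
    rw [mul_assoc _ (M.el 184), M.el184_sq, mul_one]
  · have h191 := (hp.second 191).2 k2_191
    rw [← M.el7_184] at h191
    refine h191.trans (isConj_iff.2 ⟨g, ?_⟩)
    show (g : G) * (t * M.el 184) * (g : G)⁻¹ = (g : G) * t * (g : G)⁻¹ * M.el 184
    rw [mul_assoc ((g : G) * t), show (g : G)⁻¹ * M.el 184 = M.el 184 * (g : G)⁻¹ from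
      inv_mul_eq_iff_eq_mul.2 (by rw [← mul_assoc, hg, mul_inv_cancel_right])]
    simp [mul_assoc]

theorem lift_unique_first (hp : Pattern M b) {N : ℕ} (hX : MidFacts M.cX N) {u u' : M.cU}
    (hm : IsMid (M.pr u)) (hu : IsConj t (u : G)) (hu' : IsConj t (u' : G))
    (he : M.pr u' = M.pr u) : u' = u := by
  obtain ⟨p, q, hp1, -, -, hq2, hqp⟩ := hp.lift_mid hX hm
  have hnq : ∀ w : M.cU, IsConj t (w : G) → M.pr w = M.pr u → (w : G) = p := fun w hw hwe => by
    rcases M.pr_eq_iff.1 (hp1.trans hwe.symm).symm with e | e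
    · exact e.symm
    · exfalso
      have : (w : G) = q := by rw [hqp, e, mul_assoc, M.el184_sq, mul_one]
      exact hp.not_conj ((this ▸ hw).trans hq2.symm)
  exact Subtype.ext ((hnq u' hu' he).trans (hnq u hu rfl).symm)

theorem lift_unique_second (hp : Pattern M b) {N : ℕ} (hX : MidFacts M.cX N) {v v' : M.cU}
    (hm : IsMid (M.pr v)) (hv : IsConj (M.el 184) (v : G)) (hv' : IsConj (M.el 184) (v' : G))
    (he : M.pr v' = M.pr v) : v' = v := by
  obtain ⟨p, q, -, hq1, hp2, -, hqp⟩ := hp.lift_mid hX hm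
  have hnp : ∀ w : M.cU, IsConj (M.el 184) (w : G) → M.pr w = M.pr v → (w : G) = q := fun w hw hwe => by
    rcases M.pr_eq_iff.1 (hq1.trans hwe.symm).symm with e | e
    · exact e.symm
    · exfalso
      have : (w : G) = p := mul_right_cancel (e.symm.trans hqp)
      exact hp.not_conj (hp2.trans (this ▸ hw).symm)
  exact Subtype.ext ((hnp v' hv' he).trans (hnp v hv rfl).symm)

theorem isMid_first (hp : Pattern M b) {N : ℕ} (hX : MidFacts M.cX N) {u : M.cU}
    (hu : IsConj t (u : G)) : IsMid (M.pr u) := by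
  by_contra hm
  obtain ⟨p, hp2, hpn, hpc, hpc'⟩ := hp.pure_image
  have hpm : ¬ IsMid (M.pr p) := fun h => hpn (hX.conj _ _ hp.isMid_tX h)
  have hu2 : M.pr u * M.pr u = 1 := by
    rw [← _root_.map_mul, ← map_one M.pr]
    exact congrArg M.pr (Subtype.ext (sq_one_of_isConj hu M.mul_self))
  have hu1 : M.pr u ≠ 1 := fun h => by
    rcases M.pr_eq_iff.1 (h.trans (map_one M.pr).symm).symm with e | e
    · rw [OneMemClass.coe_one] at e
      exact M.ne_one (isConj_one_left.1 (e ▸ hu))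
    · rw [OneMemClass.coe_one, one_mul] at e
      exact hp.not_conj (e ▸ hu)
  have hpp : M.pr p * M.pr p = 1 := by rw [← pow_two, ← hp2, pow_orderOf_eq_one]
  have hp1 : M.pr p ≠ 1 := fun h => by rw [h, orderOf_one] at hp2; exact absurd hp2 (by norm_num)
  obtain ⟨y, hy⟩ := isConj_iff.1 (hX.other _ _ hpp hu2 hp1 hu1 hpm hm)
  obtain ⟨g, rfl⟩ := QuotientGroup.mk'_surjective M.cZ y
  have h' : M.pr (g * p * g⁻¹) = M.pr u := by
    rw [_root_.map_mul, _root_.map_mul, map_inv]; exact hy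
  rcases M.pr_eq_iff.1 h' with e | e
  · have hc : IsConj (p : G) (u : G) := isConj_iff.2 ⟨g, e.symm⟩
    exact hp.not_conj (hu.trans (hpc.trans hc).symm)
  · have hc : IsConj ((p : G) * M.el 184) (u : G) := isConj_iff.2 ⟨g, by
      rw [e]
      show (g : G) * ((p : G) * M.el 184) * (g : G)⁻¹ = (g : G) * p * (g : G)⁻¹ * M.el 184
      rw [mul_assoc ((g : G) * p), show (g : G)⁻¹ * M.el 184 = M.el 184 * (g : G)⁻¹ from
        inv_mul_eq_iff_eq_mul.2 (by rw [← mul_assoc, M.mem_cU.1 g.2, mul_inv_cancel_right])]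
      simp [mul_assoc]⟩
    exact hp.not_conj (hu.trans (hpc'.trans hc).symm)

theorem count_c_big (hp : Pattern M b) {N : ℕ} (hX : MidFacts M.cX N) (hcard : Nat.card M.cX ∣ 120) :
    Nat.card {p : G × G // IsConj t p.1 ∧ IsConj (M.el 184) p.2 ∧
      M.el 184 ∈ Subgroup.zpowers (p.1 * p.2)} = N := by
  rw [← hX.pairs]
  have key : ∀ p : {p : G × G // IsConj t p.1 ∧ IsConj (M.el 184) p.2 ∧
      M.el 184 ∈ Subgroup.zpowers (p.1 * p.2)}, ∀ h1 : p.1.1 ∈ M.cU, ∀ h2 : p.1.2 ∈ M.cU,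
      IsMid (M.pr ⟨p.1.1, h1⟩) ∧ IsMid (M.pr ⟨p.1.2, h2⟩) ∧
        (M.pr ⟨p.1.1, h1⟩ * M.pr ⟨p.1.2, h2⟩) ^ 15 = 1 := by
    rintro ⟨⟨u, v⟩, hu, hv, hz⟩ h1 h2
    obtain ⟨m, hm, hmc⟩ := involution_in_powers M.el184_sq M.el184_ne_one hz
    have hodd : Odd m := by
      by_contra hev
      obtain ⟨j, rfl⟩ := Nat.not_odd_iff_even.1 hev
      exact M.not_square (s := (u * v) ^ j) (pow_mem (mul_mem h1 h2) j) (by rw [← pow_add, ← hmc])
    have hxy : (M.pr ⟨u, h1⟩ * M.pr ⟨v, h2⟩) ^ m = 1 := by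
      rw [← _root_.map_mul, ← map_pow, ← map_one M.pr]
      refine (M.pr_eq_iff.2 (Or.inr ?_)).symm
      rw [OneMemClass.coe_one, one_mul, SubgroupClass.coe_pow]
      exact hmc.symm
    have hu2 : M.pr ⟨u, h1⟩ * M.pr ⟨u, h1⟩ = 1 := by
      rw [← _root_.map_mul, ← map_one M.pr]
      exact congrArg M.pr (Subtype.ext (sq_one_of_isConj hu M.mul_self))
    have hv2 : M.pr ⟨v, h2⟩ * M.pr ⟨v, h2⟩ = 1 := by
      rw [← _root_.map_mul, ← map_one M.pr]
      exact congrArg M.pr (Subtype.ext (sq_one_of_isConj hv M.el184_sq))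
    have hum := hp.isMid_first hX (u := ⟨u, h1⟩) hu
    refine ⟨hum, isMid_conj (isConj_of_odd hu2 hv2 hodd hxy) hum, ?_⟩
    rw [← orderOf_dvd_iff_pow_eq_one]
    have hd1 : orderOf (M.pr ⟨u, h1⟩ * M.pr ⟨v, h2⟩) ∣ m := orderOf_dvd_of_pow_eq_one hxy
    have hd2 := (orderOf_dvd_natCard (M.pr ⟨u, h1⟩ * M.pr ⟨v, h2⟩)).trans hcard
    have hco : Nat.Coprime (orderOf (M.pr ⟨u, h1⟩ * M.pr ⟨v, h2⟩)) (2 ^ 3) :=
      (Nat.coprime_two_right.2 (hodd.of_dvd_nat hd1)).pow_right _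
    exact hco.dvd_of_dvd_mul_left (by simpa using hd2)
  have hmem : ∀ p : {p : G × G // IsConj t p.1 ∧ IsConj (M.el 184) p.2 ∧
      M.el 184 ∈ Subgroup.zpowers (p.1 * p.2)}, p.1.1 ∈ M.cU ∧ p.1.2 ∈ M.cU := fun p =>
    hp.mem_cU_of_pair p.2.1 p.2.2.1 p.2.2.2
  let f : {p : G × G // IsConj t p.1 ∧ IsConj (M.el 184) p.2 ∧
      M.el 184 ∈ Subgroup.zpowers (p.1 * p.2)} →
      {p : M.cX × M.cX // IsMid p.1 ∧ IsMid p.2 ∧ (p.1 * p.2) ^ 15 = 1} := fun p =>
    ⟨(M.pr ⟨p.1.1, (hmem p).1⟩, M.pr ⟨p.1.2, (hmem p).2⟩), key p _ _⟩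
  refine Nat.card_congr (Equiv.ofBijective f ⟨fun p q h => ?_, fun p => ?_⟩)
  · have h' := congrArg Subtype.val h
    have e1 := hp.lift_unique_first hX (key q (hmem q).1 (hmem q).2).1 q.2.1 p.2.1 (congrArg Prod.fst h')
    have e2 := hp.lift_unique_second hX (key q (hmem q).1 (hmem q).2).2.1 q.2.2.1 p.2.2.1
      (congrArg Prod.snd h')
    exact Subtype.ext (Prod.ext (congrArg Subtype.val e1) (congrArg Subtype.val e2))
  · obtain ⟨⟨x, y⟩, hx, hy, hxy⟩ := p
    obtain ⟨u, -, hu1, -, huc, -, -⟩ := hp.lift_mid hX hx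
    obtain ⟨-, v, -, hv1, -, hvc, -⟩ := hp.lift_mid hX hy
    have h15 : M.pr ((u * v) ^ 15) = 1 := by rw [map_pow, _root_.map_mul, hu1, hv1]; exact hxy
    have hz : M.el 184 ∈ Subgroup.zpowers ((u : G) * v) := by
      rcases M.pr_eq_iff.1 (h15.trans (map_one M.pr).symm).symm with e | e
      · exfalso
        rw [OneMemClass.coe_one, SubgroupClass.coe_pow, Subgroup.coe_mul] at e
        exact hp.not_conj ((huc.trans (isConj_of_odd (sq_one_of_isConj huc M.mul_self)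
          (sq_one_of_isConj hvc M.el184_sq) (by decide) e)).trans hvc.symm)
      · rw [OneMemClass.coe_one, one_mul, SubgroupClass.coe_pow, Subgroup.coe_mul] at e
        exact e ▸ Subgroup.npow_mem_zpowers _ _
    refine ⟨⟨((u : G), (v : G)), huc, hvc, hz⟩, ?_⟩
    exact Subtype.ext (Prod.ext hu1 hv1)

end Pattern

end CfsgLib.MTwelveCent
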