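import Cfsg.Agent.Lib.MTwelveCent.Facts
import Mathlib.GroupTheory.Subgroup.Centralizer
import Mathlib.GroupTheory.OrderOfElement
import Mathlib.Algebra.Group.Subgroup.Finite

/-!
An element whose centraliser is coordinatised by the table on `192` symbols: elementary consequences.
-/
set_option autoImplicit false

namespace CfsgLib.MTwelveCent

/-- the product on symbols -/
def fmul (i j : Fin 192) : Fin 192 := ⟨mulN i j, mulN_lt i.isLt j.isLt⟩

theorem fmul_val (i j : Fin 192) : (fmul i j).val = mulN i j := rfl

/-- the centraliser of `t` is coordinatised by the table, `t` being the symbol `7` -/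
structure Model (G : Type*) [Group G] (t : G) where
  /-- the element with a given symbol -/
  el : Fin 192 → G
  inj : Function.Injective el
  map_mul : ∀ i j, el (fmul i j) = el i * el j
  map_seven : el 7 = t
  mem_iff : ∀ g, g * t = t * g ↔ ∃ i, el i = g

namespace Model

variable {G : Type*} [Group G] {t : G} (M : Model G t)

theorem map_zero : M.el 0 = 1 := by
  have h : fmul 0 0 = 0 := by decide +kernel
  have := M.map_mul 0 0
  rw [h] at this
  simpa using this

theorem eq_one_iff {i : Fin 192} : M.el i = 1 ↔ i = 0 :=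
  ⟨fun h => M.inj (h.trans M.map_zero.symm), fun h => h ▸ M.map_zero⟩

theorem commute_iff {i j : Fin 192} : M.el i * M.el j = M.el j * M.el i ↔ comN i j = true := by
  rw [← M.map_mul, ← M.map_mul, M.inj.eq_iff, comN, beq_iff_eq, Fin.ext_iff]
  rfl

theorem commutes (i : Fin 192) : M.el i * t = t * M.el i := (M.mem_iff _).2 ⟨i, rfl⟩

theorem sq_eq_iff {i k : Fin 192} : M.el i * M.el i = M.el k ↔ mulN i i = k.val := by
  rw [← M.map_mul, M.inj.eq_iff, Fin.ext_iff]
  rfl

theorem el_eq_iff {i j : Fin 192} : M.el i = M.el j ↔ i.val = j.val := by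
  rw [M.inj.eq_iff, Fin.ext_iff]

theorem sq_one_iff {i : Fin 192} : M.el i * M.el i = 1 ↔ typ i < 5 := by
  have h := all192_spec typ_ok i.isLt
  simp only [Bool.and_eq_true, beq_iff_eq] at h
  rw [← M.map_zero, M.sq_eq_iff]
  have h1 := h.1.1.1.1.1.1.1.1
  constructor
  · intro e
    simpa [e] using h1
  · intro e
    simpa [e] using h1

theorem typ_of_sq {i : Fin 192} (h : M.el i * M.el i = 1) (h1 : M.el i ≠ 1) (ht : M.el i ≠ t) :
    typ i = 2 ∨ typ i = 3 ∨ typ i = 4 := by
  have hk := M.sq_one_iff.1 h
  have hh := all192_spec typ_ok i.isLt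
  simp only [Bool.and_eq_true, beq_iff_eq] at hh
  have h0 : typ i ≠ 0 := fun e => h1 (by
    rw [← M.map_zero, M.el_eq_iff]
    have := hh.1.1.1.1.1.1.1.2
    simpa [e] using this)
  have h7 : typ i ≠ 1 := fun e => ht ((M.el_eq_iff.2 ?_).trans M.map_seven)
  rotate_left
  · have := hh.1.1.1.1.1.1.2
    simpa [e] using this
  omega

theorem card_centralizer (i : Fin 192) :
    Nat.card {g : G // g * t = t * g ∧ g * M.el i = M.el i * g} = cntN i := by
  have e : {g : G // g * t = t * g ∧ g * M.el i = M.el i * g} ≃
      {j : Fin 192 // comN i.val j.val = true} :=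
    (Equiv.ofBijective (fun j : {j : Fin 192 // comN i.val j.val = true} =>
        (⟨M.el j.1, M.commutes _, (M.commute_iff.2 j.2).symm⟩ :
          {g : G // g * t = t * g ∧ g * M.el i = M.el i * g}))
      ⟨fun a b hab => Subtype.ext (M.inj (congrArg Subtype.val hab)), fun g => by
        obtain ⟨j, hj⟩ := (M.mem_iff _).1 g.2.1
        refine ⟨⟨j, M.commute_iff.1 ?_⟩, Subtype.ext hj⟩
        rw [hj]
        exact g.2.2.symm⟩).symm
  rw [Nat.card_congr e, Nat.card_eq_fintype_card, Fintype.card_subtype, cntN]
  rw [← Finset.card_map Fin.valEmbedding]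
  have : (Finset.univ.filter fun j : Fin 192 => comN i.val j.val = true).map Fin.valEmbedding =
      (Finset.range 192).filter fun j => comN i.val j = true := by
    ext j
    constructor
    · simp only [Finset.mem_map, Finset.mem_filter, Finset.mem_univ, true_and, Finset.mem_range]
      rintro ⟨a, ha, rfl⟩
      exact ⟨a.isLt, ha⟩
    · simp only [Finset.mem_map, Finset.mem_filter, Finset.mem_univ, true_and, Finset.mem_range]
      exact fun h => ⟨⟨j, h.1⟩, h.2, rfl⟩
  rw [this, List.countP_eq_length_filter]
  simp [Finset.card, Finset.filter, Finset.range, Multiset.range]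

end Model

end CfsgLib.MTwelveCent
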