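import Mathlib.GroupTheory.Perm.Basic
import Mathlib.Data.Fintype.Perm
import Mathlib.Algebra.Group.Conj
import Mathlib.SetTheory.Cardinal.Finite

/-!
The involutions with centraliser of order eight in the symmetric groups on four and five letters.
-/
set_option autoImplicit false
set_option maxRecDepth 100000
set_option synthInstance.maxSize 1000

namespace CfsgLib.MTwelveCent

/-- an involution with centraliser of order eight -/
def IsMid {X : Type*} [Group X] (x : X) : Prop :=
  x * x = 1 ∧ Nat.card {g : X // g * x = x * g} = 8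

theorem isMid_map {X Y : Type*} [Group X] [Group Y] (e : X ≃* Y) (x : X) :
    IsMid (e x) ↔ IsMid x := by
  unfold IsMid
  rw [← map_mul e, e.map_eq_one_iff]
  refine and_congr_right fun _ => ?_
  rw [Nat.card_congr (Equiv.subtypeEquiv e.toEquiv (q := fun g => g * e x = e x * g) fun g => ?_)]
  show g * x = x * g ↔ e g * e x = e x * e g
  rw [← map_mul, ← map_mul, e.injective.eq_iff]

theorem isMid_conj {X : Type*} [Group X] {x y : X} (h : IsConj x y) (hx : IsMid x) : IsMid y := by
  obtain ⟨g, rfl⟩ := isConj_iff.1 h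
  exact (isMid_map (MulAut.conj g) x).2 hx

/-- a Boolean version of `IsMid` for permutations -/
def midB {n : ℕ} (σ : Equiv.Perm (Fin n)) : Bool :=
  decide (σ * σ = 1) && decide ((Finset.univ.filter fun g => g * σ = σ * g).card = 8)

theorem midB_iff {n : ℕ} (σ : Equiv.Perm (Fin n)) : midB σ = true ↔ IsMid σ := by
  unfold midB IsMid
  rw [Bool.and_eq_true, decide_eq_true_eq, decide_eq_true_eq, Nat.card_eq_fintype_card,
    Fintype.card_subtype]

/-- what is needed about an involution `x` with centraliser of order eight -/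
structure MidFacts (X : Type*) [Group X] (N : ℕ) : Prop where
  conj : ∀ x y : X, IsMid x → IsMid y → IsConj x y
  other : ∀ x y : X, x * x = 1 → y * y = 1 → x ≠ 1 → y ≠ 1 → ¬ IsMid x → ¬ IsMid y → IsConj x y
  commuting : ∀ x : X, IsMid x → Nat.card {y : X // IsMid y ∧ y * x = x * y} = 3
  pairs : Nat.card {p : X × X // IsMid p.1 ∧ IsMid p.2 ∧ (p.1 * p.2) ^ 15 = 1} = N

theorem midFacts_map {X Y : Type*} [Group X] [Group Y] (e : X ≃* Y) {N : ℕ} (h : MidFacts Y N) :
    MidFacts X N := by
  have key : ∀ x, IsMid x ↔ IsMid (e x) := fun x => (isMid_map e x).symm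
  have back : ∀ x y : X, IsConj (e x) (e y) → IsConj x y := fun x y hxy => by
    have := e.symm.toMonoidHom.map_isConj hxy
    simpa using this
  refine ⟨fun x y hx hy => back x y (h.conj _ _ ((key x).1 hx) ((key y).1 hy)),
    fun x y hx hy hx1 hy1 hxm hym => back x y (h.other _ _ (by rw [← map_mul, hx, map_one])
      (by rw [← map_mul, hy, map_one]) (by simpa using hx1) (by simpa using hy1)
      (fun h' => hxm ((key x).2 h')) (fun h' => hym ((key y).2 h'))), fun x hx => ?_, ?_⟩
  · rw [← h.commuting (e x) ((key x).1 hx)]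
    exact Nat.card_congr (Equiv.subtypeEquiv e.toEquiv fun y => by
      show IsMid y ∧ y * x = x * y ↔ IsMid (e y) ∧ e y * e x = e x * e y
      rw [key y, ← map_mul, ← map_mul, e.injective.eq_iff])
  · rw [← h.pairs]
    exact Nat.card_congr (Equiv.subtypeEquiv (e.toEquiv.prodCongr e.toEquiv) fun p => by
      show IsMid p.1 ∧ IsMid p.2 ∧ (p.1 * p.2) ^ 15 = 1 ↔
        IsMid (e p.1) ∧ IsMid (e p.2) ∧ (e p.1 * e p.2) ^ 15 = 1
      rw [key p.1, key p.2, ← map_mul, ← map_pow, e.map_eq_one_iff])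

/-- an involution moving exactly four letters -/
def dtB {n : ℕ} (σ : Equiv.Perm (Fin n)) : Bool :=
  decide (σ * σ = 1) && ((List.finRange n).countP (fun i => decide (σ i ≠ i)) == 4)

theorem midFacts_of_check {n N : ℕ} (x₀ x₁ : Equiv.Perm (Fin n))
    (hA : ∀ y : Equiv.Perm (Fin n), y * y = 1 → y ≠ 1 →
      (dtB y = true ∧ ∃ g, g * x₀ = y * g) ∨ (dtB y = false ∧ ∃ g, g * x₁ = y * g))
    (h1 : Fintype.card (Equiv.Perm (Fin n)) ≠ 8 ∧ dtB (1 : Equiv.Perm (Fin n)) = false)
    (hB : midB x₀ = true ∧ midB x₁ = false)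
    (hC : (Finset.univ.filter fun y => dtB y = true ∧ y * x₀ = x₀ * y).card = 3)
    (hD : (Finset.univ.filter fun p : Equiv.Perm (Fin n) × Equiv.Perm (Fin n) =>
      dtB p.1 = true ∧ dtB p.2 = true ∧ (p.1 * p.2) ^ 15 = 1).card = N) :
    MidFacts (Equiv.Perm (Fin n)) N := by
  have conjOf : ∀ {g x y : Equiv.Perm (Fin n)}, g * x = y * g → IsConj x y := fun {g x y} h =>
    isConj_iff.2 ⟨g, mul_inv_eq_iff_eq_mul.2 h⟩
  have hone : ¬ IsMid (1 : Equiv.Perm (Fin n)) := by
    rintro ⟨-, h⟩
    refine h1.1 ?_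
    rw [← h, ← Nat.card_eq_fintype_card]
    exact Nat.card_congr (Equiv.subtypeUnivEquiv fun g => by simp).symm
  have h0 : IsMid x₀ := (midB_iff x₀).1 hB.1
  have h0' : ¬ IsMid x₁ := by rw [← midB_iff, hB.2]; simp
  have key : ∀ y : Equiv.Perm (Fin n), IsMid y ↔ dtB y = true := by
    intro y
    constructor
    · intro hy
      rcases hA y hy.1 (fun e => hone (e ▸ hy)) with ⟨hd, -⟩ | ⟨-, g, hg⟩
      · exact hd
      · exact absurd (isMid_conj (conjOf hg).symm hy) h0'
    · intro hd
      have hy : y * y = 1 := by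
        simp only [dtB, Bool.and_eq_true, decide_eq_true_eq] at hd
        exact hd.1
      rcases hA y hy (fun e => by rw [e, h1.2] at hd; simp at hd) with ⟨-, g, hg⟩ | ⟨hd', -⟩
      · exact isMid_conj (conjOf hg) h0
      · rw [hd] at hd'; simp at hd'
  have toZero : ∀ y, IsMid y → IsConj x₀ y := fun y hy => by
    rcases hA y hy.1 (fun e => hone (e ▸ hy)) with ⟨-, g, hg⟩ | ⟨hd, -⟩
    · exact conjOf hg
    · rw [(key y).1 hy] at hd; simp at hd
  have toOne : ∀ y, y * y = 1 → y ≠ 1 → ¬ IsMid y → IsConj x₁ y := fun y hy hy1 hym => by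
    rcases hA y hy hy1 with ⟨hd, -⟩ | ⟨-, g, hg⟩
    · exact absurd ((key y).2 hd) hym
    · exact conjOf hg
  refine ⟨fun x y hx hy => (toZero x hx).symm.trans (toZero y hy),
    fun x y hx hy hx1 hy1 hxm hym => (toOne x hx hx1 hxm).symm.trans (toOne y hy hy1 hym),
    fun x hx => ?_, ?_⟩
  · obtain ⟨g, rfl⟩ := isConj_iff.1 (toZero x hx)
    rw [← hC, ← Fintype.card_subtype, ← Nat.card_eq_fintype_card]
    refine (Nat.card_congr (Equiv.subtypeEquiv (MulAut.conj g).toEquiv fun y => ?_)).symm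
    rw [← key]
    show IsMid y ∧ y * x₀ = x₀ * y ↔ IsMid (MulAut.conj g y) ∧
      MulAut.conj g y * MulAut.conj g x₀ = MulAut.conj g x₀ * MulAut.conj g y
    rw [isMid_map, ← map_mul, ← map_mul, (MulAut.conj g).injective.eq_iff]
  · rw [← hD, ← Fintype.card_subtype, ← Nat.card_eq_fintype_card]
    exact Nat.card_congr (Equiv.subtypeEquivRight fun p => by rw [key, key])

theorem midFacts_four : MidFacts (Equiv.Perm (Fin 4)) 3 :=
  midFacts_of_check (Equiv.swap 0 1 * Equiv.swap 2 3) (Equiv.swap 0 1)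
    (by decide +kernel) (by decide +kernel) (by decide +kernel) (by decide +kernel) (by decide +kernel)

theorem midFacts_five : MidFacts (Equiv.Perm (Fin 5)) 195 :=
  midFacts_of_check (Equiv.swap 0 1 * Equiv.swap 2 3) (Equiv.swap 0 1)
    (by decide +kernel) (by decide +kernel) (by decide +kernel) (by decide +kernel) (by decide +kernel)

end CfsgLib.MTwelveCent
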