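import Cfsg.Agent.Lib.MTwelveCent.CentreSub
import Cfsg.Agent.Lib.MTwelveCent.PermFacts
import Cfsg.Agent.Lib.InvChar.DihedralEight
import Cfsg.Agent.S3035
import Cfsg.Agent.Classical.SLGen
import Cfsg.Agent.Classical.SLBasic

/-!
The centraliser of `c` is either a 2-group, or `2 × S₄`, or `2 × S₅` modulo `⟨c⟩`.
-/
set_option autoImplicit false
set_option maxRecDepth 100000

namespace CfsgLib.MTwelveCent

attribute [local irreducible] mulN typ cntN inS inQ all192

theorem four_facts : ∀ b : Bool, ∀ i : Fin 192, (i = 7 ∨ i = 1 ∨ i = 6) →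
    k1 b i.val = true ∧ inD i.val = true ∧ k2 b (fmul i 184).val = true := by
  decide +kernel

theorem k1_inE : ∀ i : Fin 192, k1 false i.val = true → inE i.val = true := by decide +kernel

theorem k1_count : (List.range 192).countP (k1 false) = 7 := by decide +kernel

theorem k1_two : k1 false (2 : Fin 192).val = true ∧
    fmul (fmul (fmul 2 184) 2) 184 = 7 := by decide +kernel

theorem k1_comm184 : ∀ i : Fin 192, k1 false i.val = true →
    fmul (fmul (fmul i 184) i) 184 = 0 ∨ fmul (fmul (fmul i 184) i) 184 = 7 := by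
  decide +kernel

theorem k1_D : ∀ i : Fin 192, inD i.val = true → k1 false i.val = true → i = 7 ∨ i = 1 ∨ i = 6 := by
  decide +kernel

theorem k2_cnt : ∀ b : Bool, ∀ i : Fin 192, k2 b i.val = true →
    cntN i ∣ 16 ∧ (b = true → cntN i = 16) := by
  decide +kernel

theorem pure_facts : ∀ b : Bool, k2 b (56 : Fin 192).val = true ∧
    k2 b (fmul 56 184).val = true ∧ inD (56 : Fin 192).val = true ∧
    mulN (56 : Fin 192).val (56 : Fin 192).val = 0 := by
  decide +kernel

theorem count_D_one : (Finset.univ.filter fun j : Fin 192 =>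
    inD j.val = true ∧ comN j.val 1 = true).card = 8 := by
  decide +kernel

/-- a normal subgroup of odd order on which the three involutions of a four group act without fixed
points is trivial -/
theorem eq_bot_of_four {X : Type*} [Group X] [Finite X] {N : Subgroup X} (hN : N.Normal)
    {v w : X} (hv : v * v = 1) (hw : w * w = 1) (hvw : v * w = w * v)
    (h1 : ∀ o ∈ N, o * v = v * o → o = 1) (h2 : ∀ o ∈ N, o * w = w * o → o = 1)
    (h3 : ∀ o ∈ N, o * (v * w) = (v * w) * o → o = 1) : N = ⊥ := by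
  classical
  have key : ∀ u : X, u * u = 1 → (∀ o ∈ N, o * u = u * o → o = 1) → ∀ y ∈ N, u * y * u = y⁻¹ := by
    intro u hu hfix y hy
    have hu' : u⁻¹ = u := inv_eq_of_mul_eq_one_right hu
    have hmem : ∀ o ∈ N, o⁻¹ * (u * o * u) ∈ N := fun o ho =>
      N.mul_mem (N.inv_mem ho) (by simpa [hu'] using hN.conj_mem o ho u)
    have hinj : Function.Injective (fun o : N => (⟨_, hmem o o.2⟩ : N)) := by
      intro o p h
      have h' : (o : X)⁻¹ * (u * o * u) = (p : X)⁻¹ * (u * p * u) := congrArg Subtype.val h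
      have hq := hfix ((p : X) * (o : X)⁻¹) (N.mul_mem p.2 (N.inv_mem o.2)) ?_
      · exact Subtype.ext (mul_inv_eq_one.1 hq).symm
      · have h'' : (p : X) * (o : X)⁻¹ = (u * p * u) * (u * o * u)⁻¹ := by
          rw [eq_mul_inv_iff_mul_eq, mul_assoc, h', mul_inv_cancel_left]
        conv_rhs => rw [h'', mul_inv_rev, mul_inv_rev, hu']
        simp only [← mul_assoc, hu, one_mul]
        simp only [mul_assoc, hu, mul_one]
    obtain ⟨o, ho⟩ := (Finite.injective_iff_surjective.1 hinj) ⟨y, hy⟩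
    have ho' : (o : X)⁻¹ * (u * o * u) = y := congrArg Subtype.val ho
    rw [← ho', mul_inv_rev, inv_inv, mul_inv_rev, mul_inv_rev, hu']
    simp only [← mul_assoc]
    simp only [mul_assoc, hu, mul_one]
  rw [Subgroup.eq_bot_iff_forall]
  intro y hy
  refine h3 y hy ?_
  have e1 := key v hv h1 y hy
  have e2 := key w hw h2 y⁻¹ (N.inv_mem hy)
  rw [inv_inv] at e2
  have h' : v * w * (v * w) = 1 := by
    rw [mul_assoc, ← mul_assoc w, ← hvw, mul_assoc v, hw, mul_one, hv]
  calc y * (v * w) = (w * y⁻¹ * w) * (v * w) := by rw [e2]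
    _ = w * (v * y * v) * (w * (v * w)) := by rw [e1]; simp [mul_assoc]
    _ = (w * v) * y * (v * w * (v * w)) := by simp [mul_assoc]
    _ = v * w * y := by rw [h', mul_one, ← hvw]

theorem not_simple_of_not_isConj {X : Type*} [Group X] [Finite X] {z p : X} (hz : orderOf z = 2)
    (e : ↥(Subgroup.centralizer ({z} : Set X)) ≃* DihedralGroup 4) (hp : orderOf p = 2)
    (h : ¬ IsConj z p) : ¬ IsSimpleGroup X := by
  intro hs
  have hD := CfsgLib.InvChar.DihedralEight.isD8Centralizer_of_equiv hz e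
  refine h (CfsgLib.InvChar.DihedralEight.isConj_of_no_index_two hD (fun H hH => ?_) hp)
  haveI := Subgroup.normal_of_index_eq_two hH
  rcases (inferInstance : H.Normal).eq_bot_or_eq_top with rfl | rfl
  · rw [Subgroup.index_bot] at hH
    have h8 : Nat.card (Subgroup.centralizer ({z} : Set X)) = 8 := by
      rw [Nat.card_congr e.toEquiv, DihedralGroup.nat_card]
    have := Subgroup.card_le_card_group (Subgroup.centralizer ({z} : Set X))
    omega
  · simp at hH

theorem isSimple_sl32 : IsSimpleGroup (Matrix.SpecialLinearGroup (Fin 3) (ZMod 2)) := by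
  have hsim := Cfsg.Agent.Classical.psl_isSimpleGroup (F := ZMod 2) (ι := Fin 3) (by norm_num)
  have hc : Subgroup.center (Matrix.SpecialLinearGroup (Fin 3) (ZMod 2)) = ⊥ := by
    apply Subgroup.eq_bot_of_card_eq
    rw [Cfsg.Agent.Classical.card_center_sl 3 (by norm_num), ZMod.card]
    rfl
  let e : Matrix.SpecialLinearGroup (Fin 3) (ZMod 2) ≃* Matrix.ProjectiveSpecialLinearGroup (Fin 3) (ZMod 2) :=
    ((QuotientGroup.quotientBot).symm).trans (QuotientGroup.quotientMulEquivOfEq hc.symm)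
  exact e.isSimpleGroup

namespace Pattern

variable {G : Type*} [Group G] {t : G} {M : Model G t} {b : Bool}

theorem card_centralizing (hp : Pattern M b) (i : Fin 192) (hi : k1 b i.val = true)
    (hD : inD i.val = true) :
    ∃ k : Fin 192, k2 b k.val = true ∧
      Nat.card {x : G // x * M.el 184 = M.el 184 * x ∧ x * M.el i = M.el i * x} = cntN k := by
  obtain ⟨g, hg⟩ := isConj_iff.1 ((hp.first i).2 hi).symm
  have hc : (g * M.el 184 * g⁻¹) * t = t * (g * M.el 184 * g⁻¹) := by
    have h := conj_commute (M.commute_iff.2 hD : M.el i * M.el 184 = M.el 184 * M.el i).symm g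
    rwa [hg] at h
  obtain ⟨k, hk⟩ := (M.mem_iff _).1 hc
  refine ⟨k, (hp.second k).1 (isConj_iff.2 ⟨g, hk.symm⟩), ?_⟩
  rw [← M.card_centralizer k, hk, card_commuting_conj g, hg]
  exact Nat.card_congr (Equiv.subtypeEquivRight fun x => and_comm)

theorem pr_order_dvd [Finite G] (hp : Pattern M b) (i : Fin 192) (hi : i = 7 ∨ i = 1 ∨ i = 6)
    (x : M.cU)
    (h : M.pr x * M.pr ⟨M.el i, M.el_mem_cU (four_facts b i hi).2.1⟩ =
      M.pr ⟨M.el i, M.el_mem_cU (four_facts b i hi).2.1⟩ * M.pr x) :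
    orderOf (M.pr x) ∣ 16 := by
  obtain ⟨h1, hD, h2⟩ := four_facts b i hi
  have hnc : ¬ IsConj (M.el i) (M.el i * M.el 184) := fun hc => by
    rw [← M.map_mul] at hc
    exact hp.not_conj ((((hp.first i).2 h1).trans hc).trans ((hp.second _).2 h2).symm)
  have hx := M.pr_commute (M.el_mem_cU hD) hnc h
  obtain ⟨k, hk, hcard⟩ := hp.card_centralizing i h1 hD
  let S : Subgroup G := M.cU ⊓ Subgroup.centralizer ({M.el i} : Set G)
  have hS : Nat.card S = cntN k := by
    rw [← hcard]
    exact Nat.card_congr (Equiv.subtypeEquivRight fun y => by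
      rw [Subgroup.mem_inf, M.mem_cU, Subgroup.mem_centralizer_singleton_iff])
  have hxS : (x : G) ∈ S := ⟨x.2, Subgroup.mem_centralizer_singleton_iff.2 hx⟩
  have h16 : orderOf (x : G) ∣ 16 := by
    refine dvd_trans ?_ (k2_cnt b k hk).1
    have h := orderOf_dvd_natCard (⟨x, hxS⟩ : S)
    rw [← Subgroup.orderOf_coe] at h
    exact hS ▸ h
  rw [Subgroup.orderOf_coe] at h16
  exact (orderOf_map_dvd _ x).trans h16

theorem card_cU_trivial [Finite G] (hp : Pattern M b)
    (h : Subgroup.centralizer ({M.tX} : Set M.cX) ⊔ Cfsg.oddCore M.cX = ⊤) :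
    b = false ∧ Nat.card M.cU = 16 := by
  obtain ⟨e⟩ := hp.centralizer_tX
  have hO : Cfsg.oddCore M.cX = ⊥ := by
    have hsub : ∀ N : Subgroup M.cX, N.Normal → Odd (Nat.card N) → N = ⊥ := by
      intro N hN hodd
      have hfix : ∀ i : Fin 192, ∀ hi : i = 7 ∨ i = 1 ∨ i = 6, ∀ o ∈ N,
          o * M.pr ⟨M.el i, M.el_mem_cU (four_facts b i hi).2.1⟩ =
            M.pr ⟨M.el i, M.el_mem_cU (four_facts b i hi).2.1⟩ * o → o = 1 := by
        intro i hi o ho hc
        obtain ⟨x, rfl⟩ := QuotientGroup.mk'_surjective M.cZ o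
        have h16 := hp.pr_order_dvd i hi x hc
        have hN' : orderOf (M.pr x) ∣ Nat.card N := by
          have h := orderOf_dvd_natCard (⟨M.pr x, ho⟩ : N)
          rwa [← Subgroup.orderOf_coe] at h
        have hco : Nat.Coprime 16 (Nat.card N) := by
          rw [show (16 : ℕ) = 2 ^ 4 from rfl]
          exact (Nat.coprime_two_left.2 hodd).pow_left _
        exact orderOf_eq_one_iff.1 (Nat.dvd_one.1 (hco ▸ Nat.dvd_gcd h16 hN'))
      have h7 : (⟨M.el 7, M.el_mem_cU (four_facts b 7 (Or.inl rfl)).2.1⟩ : M.cU) *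
          ⟨M.el 1, M.el_mem_cU (four_facts b 1 (Or.inr (Or.inl rfl))).2.1⟩ =
          ⟨M.el 6, M.el_mem_cU (four_facts b 6 (Or.inr (Or.inr rfl))).2.1⟩ := Subtype.ext
        ((M.map_mul 7 1).symm.trans (congrArg M.el (by decide +kernel : fmul 7 1 = 6)))
      refine eq_bot_of_four hN ?_ ?_ ?_ (hfix 7 (Or.inl rfl)) (hfix 1 (Or.inr (Or.inl rfl))) ?_
      · rw [← _root_.map_mul, ← map_one M.pr]
        exact congrArg M.pr (Subtype.ext (M.sq_one_iff.2 (by decide +kernel)))
      · rw [← _root_.map_mul, ← map_one M.pr]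
        exact congrArg M.pr (Subtype.ext (M.sq_one_iff.2 (by decide +kernel)))
      · rw [← _root_.map_mul, ← _root_.map_mul]
        exact congrArg M.pr (Subtype.ext (M.commute_iff.2 (by decide +kernel)))
      · intro o ho hc
        rw [← _root_.map_mul, h7] at hc
        exact hfix 6 (Or.inr (Or.inr rfl)) o ho hc
    rw [eq_bot_iff]
    exact sSup_le fun N hN => le_of_eq (hsub N hN.1 (Nat.coprime_two_right.1 hN.2))
  rw [hO, sup_bot_eq] at h
  have hX : Nat.card M.cX = 8 := by
    rw [← Subgroup.card_top (G := M.cX), ← h, Nat.card_congr e.toEquiv, DihedralGroup.nat_card]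
  have hU : Nat.card M.cU = 16 := by rw [M.card_cU, hX]
  refine ⟨?_, hU⟩
  cases b with
  | false => rfl
  | true =>
    exfalso
    have hUD : M.dSub = M.cU :=
      Subgroup.eq_of_le_of_card_ge M.dSub_le (by rw [hU, M.card_dSub])
    obtain ⟨k, hk, hcard⟩ := hp.card_centralizing 1 (four_facts true 1 (Or.inr (Or.inl rfl))).1
      (four_facts true 1 (Or.inr (Or.inl rfl))).2.1
    rw [(k2_cnt true k hk).2 rfl] at hcard
    have e2 : {x : G // x * M.el 184 = M.el 184 * x ∧ x * M.el 1 = M.el 1 * x} ≃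
        {j : Fin 192 // inD j.val = true ∧ comN j.val 1 = true} :=
      (Equiv.ofBijective (fun j : {j : Fin 192 // inD j.val = true ∧ comN j.val 1 = true} =>
          (⟨M.el j.1, M.commute_iff.2 j.2.1, M.commute_iff.2 j.2.2⟩ :
            {x : G // x * M.el 184 = M.el 184 * x ∧ x * M.el 1 = M.el 1 * x}))
        ⟨fun p q hpq => Subtype.ext (M.inj (congrArg Subtype.val hpq)), fun x => by
          have hxD : x.1 ∈ M.dSub := hUD.symm ▸ M.mem_cU.2 x.2.1
          obtain ⟨q, hq, hqe⟩ := hxD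
          have hc : M.el q * M.el 1 = M.el 1 * M.el q := by rw [hqe]; exact x.2.2
          have hc' := M.commute_iff.1 hc
          exact ⟨⟨q, hq, hc'⟩, Subtype.ext hqe⟩⟩).symm
    rw [Nat.card_congr e2, Nat.card_eq_fintype_card, Fintype.card_subtype, count_D_one] at hcard
    omega

theorem pure_image [Finite G] (hp : Pattern M b) : ∃ p : M.cU, orderOf (M.pr p) = 2 ∧
    ¬ IsConj M.tX (M.pr p) ∧ IsConj (M.el 184) (p : G) ∧ IsConj (M.el 184) ((p : G) * M.el 184) := by
  obtain ⟨h56, h56c, hD, hsq⟩ := pure_facts b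
  have hc1 := (hp.second 56).2 h56
  have hc2 : IsConj (M.el 184) (M.el 56 * M.el 184) := by
    rw [← M.map_mul]; exact (hp.second _).2 h56c
  refine ⟨⟨M.el 56, M.el_mem_cU hD⟩, orderOf_eq_prime ?_ ?_, fun h => ?_, hc1, hc2⟩
  · rw [pow_two, ← _root_.map_mul, ← map_one M.pr]
    exact congrArg M.pr (Subtype.ext (((M.sq_eq_iff (k := 0)).2 hsq).trans M.map_zero))
  · intro h
    rcases M.pr_eq_iff.1 (h.trans (map_one M.pr).symm).symm with e | e
    · exact absurd (M.eq_one_iff.1 e) (by decide)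
    · rw [OneMemClass.coe_one, one_mul, M.inj.eq_iff] at e
      exact absurd e (by decide)
  · obtain ⟨y, hy⟩ := isConj_iff.1 h
    obtain ⟨g, rfl⟩ := QuotientGroup.mk'_surjective M.cZ y
    have h' : M.pr ⟨M.el 56, M.el_mem_cU hD⟩ = M.pr (g * ⟨t, M.t_mem_cU⟩ * g⁻¹) := by
      rw [_root_.map_mul, _root_.map_mul, map_inv]; exact hy.symm
    have hg : IsConj t ((g : G) * t * (g : G)⁻¹) := isConj_iff.2 ⟨g, rfl⟩
    rcases M.pr_eq_iff.1 h' with e | e
    · change (g : G) * t * (g : G)⁻¹ = M.el 56 at e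
      exact hp.not_conj ((e ▸ hg).trans hc1.symm)
    · change (g : G) * t * (g : G)⁻¹ = M.el 56 * M.el 184 at e
      exact hp.not_conj ((e ▸ hg).trans hc2.symm)

theorem isMid_tX (hp : Pattern M b) [Finite G] : IsMid M.tX := by
  obtain ⟨e⟩ := hp.centralizer_tX
  refine ⟨?_, ?_⟩
  · rw [← pow_two, ← tX_order M, pow_orderOf_eq_one]
  · rw [Nat.card_congr (Equiv.subtypeEquivRight (q := fun g => g ∈ Subgroup.centralizer ({M.tX} : Set M.cX))
      fun g => Subgroup.mem_centralizer_singleton_iff.symm)]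
    exact (Nat.card_congr e.toEquiv).trans DihedralGroup.nat_card

theorem mid_false [Finite G] (hp : Pattern M false) {N : ℕ} (hX : MidFacts M.cX N) : False := by
  have hm := hp.isMid_tX
  obtain ⟨⟨y, hy, hyc⟩, hne⟩ : ∃ y : {y : M.cX // IsMid y ∧ y * M.tX = M.tX * y}, y.1 ≠ M.tX := by
    by_contra h
    push Not at h
    haveI : Subsingleton {y : M.cX // IsMid y ∧ y * M.tX = M.tX * y} :=
      ⟨fun p q => Subtype.ext ((h p).trans (h q).symm)⟩
    have h1 := hX.commuting _ hm
    have h2 := Finite.card_le_one_iff_subsingleton.2 ‹Subsingleton {y : M.cX // IsMid y ∧ y * M.tX = M.tX * y}›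
    omega
  obtain ⟨x, rfl⟩ := QuotientGroup.mk'_surjective M.cZ y
  obtain ⟨y', hy'⟩ := isConj_iff.1 (hX.conj _ _ hm hy)
  obtain ⟨g, rfl⟩ := QuotientGroup.mk'_surjective M.cZ y'
  have h' : M.pr x = M.pr (g * ⟨t, M.t_mem_cU⟩ * g⁻¹) := by
    rw [_root_.map_mul, _root_.map_mul, map_inv]; exact hy'.symm
  obtain ⟨q, hq, hqe⟩ := M.el_of_cU x.2 (hp.tX_commute hyc)
  obtain ⟨i, hiD, hie⟩ : ∃ i : Fin 192, inD i.val = true ∧ M.el i = (g : G) * t * (g : G)⁻¹ := by
    rcases M.pr_eq_iff.1 h' with e | e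
    · exact ⟨q, hq, hqe.trans e.symm⟩
    · refine ⟨fmul q 184, ?_, ?_⟩
      · have := all192_two (P := fun i j => !inD i || !inD j || inD (mulN i j)) inD_closed
          q.isLt (184 : Fin 192).isLt
        rw [hq, show inD (184 : Fin 192).val = true from inD_facts.2.2.2.2.2.1] at this
        simpa [fmul_val] using this
      · rw [M.map_mul, hqe]; exact e.symm
  have hgt : g * ⟨t, M.t_mem_cU⟩ * g⁻¹ = (⟨M.el i, M.el_mem_cU hiD⟩ : M.cU) := Subtype.ext hie.symm
  rw [hgt] at h'
  have hk : k1 false i.val = true := (hp.first i).1 (isConj_iff.2 ⟨g, hie.symm⟩)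
  have hne7 : M.el i ≠ t := fun e => hne (h'.trans (congrArg M.pr (Subtype.ext e)))
  -- the conjugates of `t` commuting with `el i` are the elements of the elementary subgroup
  let f : {j : G // ∃ k : Fin 192, k1 false k.val = true ∧ M.el k = j} →
      {x : G // IsConj t x ∧ x * M.el i = M.el i * x} := fun j => ⟨j.1, by
    obtain ⟨k, hk', hj⟩ := j.2
    rw [← hj]
    refine ⟨(hp.first k).2 hk', M.commute_iff.2 ?_⟩
    have := all192_two (P := fun i j => !inE i || !inE j || (inE (mulN i j) && comN i j))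
      inE_closed k.isLt i.isLt
    rw [k1_inE k hk', k1_inE i hk] at this
    simp only [Bool.not_true, Bool.false_or, Bool.and_eq_true] at this
    exact this.2⟩
  have hf : Function.Injective f := fun a c h => Subtype.ext (congrArg (fun z => z.1) h)
  have e0 : {x : G // IsConj t x ∧ x * t = t * x} ≃
      {j : G // ∃ k : Fin 192, k1 false k.val = true ∧ M.el k = j} :=
    Equiv.subtypeEquivRight fun x => ⟨fun ⟨hc, hxt⟩ => by
      obtain ⟨k, rfl⟩ := (M.mem_iff x).1 hxt
      exact ⟨k, (hp.first k).1 hc, rfl⟩, fun ⟨k, hk', hx⟩ => by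
      rw [← hx]; exact ⟨(hp.first k).2 hk', M.commutes k⟩⟩
  let e1 : {x : G // IsConj t x ∧ x * t = t * x} ≃ {x : G // IsConj t x ∧ x * M.el i = M.el i * x} :=
    Equiv.subtypeEquiv (MulAut.conj (g : G)).toEquiv fun x => by
      show _ ↔ IsConj t (MulAut.conj (g : G) x) ∧ MulAut.conj (g : G) x * M.el i = M.el i * MulAut.conj (g : G) x
      rw [hie, show (g : G) * t * (g : G)⁻¹ = MulAut.conj (g : G) t from rfl, ← _root_.map_mul,
        ← _root_.map_mul, (MulAut.conj (g : G)).injective.eq_iff]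
      refine and_congr_left fun _ => ?_
      constructor
      · exact fun h => h.trans (isConj_iff.2 ⟨g, rfl⟩)
      · exact fun h => h.trans (isConj_iff.2 ⟨(g : G), rfl⟩).symm
  have hbij : Function.Bijective f :=
    hf.bijective_of_nat_card_le (le_of_eq ((Nat.card_congr e1).symm.trans (Nat.card_congr e0)))
  obtain ⟨j, hj⟩ := hbij.2 (e1 ⟨M.el 2, (hp.first 2).2 k1_two.1, M.commutes 2⟩)
  obtain ⟨k, hk', hke⟩ := j.2
  have hkg : M.el k = (g : G) * M.el 2 * (g : G)⁻¹ := by
    have h := congrArg Subtype.val hj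
    exact hke.trans h
  have h2t : M.el 2 * M.el 184 * M.el 2 * M.el 184 = t := by
    rw [← M.map_mul, ← M.map_mul, ← M.map_mul, k1_two.2, M.map_seven]
  have hgt' : (g : G) * t * (g : G)⁻¹ = M.el k * M.el 184 * M.el k * M.el 184 := by
    have hc : MulAut.conj (g : G) (M.el 184) = M.el 184 := by
      rw [MulAut.conj_apply, M.mem_cU.1 g.2, mul_inv_cancel_right]
    have := congrArg (MulAut.conj (g : G)) h2t
    rw [_root_.map_mul, _root_.map_mul, _root_.map_mul, hc, MulAut.conj_apply, MulAut.conj_apply,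
      ← hkg] at this
    exact this.symm
  rw [← hie, ← M.map_mul, ← M.map_mul, ← M.map_mul] at hgt'
  rcases k1_comm184 k hk' with h | h <;> rw [h] at hgt'
  · rw [M.map_zero, hie] at hgt'
    exact M.ne_one (conj_eq_one_iff.1 hgt')
  · exact hne7 (hgt'.trans M.map_seven)

/-- the two shapes of the centraliser of `c` -/
theorem cU_shape [Finite G] (hp : Pattern M b) :
    (b = false ∧ Nat.card M.cU = 16) ∨
    (b = true ∧ ((Nat.card M.cU = 48 ∧ MidFacts M.cX 3) ∨ (Nat.card M.cU = 240 ∧ MidFacts M.cX 195))) := by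
  obtain ⟨e⟩ := hp.centralizer_tX
  obtain ⟨p, hp2, hpn, -, -⟩ := hp.pure_image
  have hns := not_simple_of_not_isConj (tX_order M) e hp2 hpn
  rcases Cfsg.Agent.S3035.result M.tX (tX_order M) ⟨e⟩ with h | ⟨⟨f⟩⟩ | ⟨⟨f⟩⟩ | ⟨⟨f⟩⟩ | ⟨⟨f⟩⟩
  · exact Or.inl (hp.card_cU_trivial h)
  · have hX := midFacts_map f midFacts_four
    have hU : Nat.card M.cU = 48 := by
      rw [M.card_cU, Nat.card_congr f.toEquiv, Nat.card_perm, Nat.card_fin]; rfl
    cases b with
    | false => exact (hp.mid_false hX).elim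
    | true => exact Or.inr ⟨rfl, Or.inl ⟨hU, hX⟩⟩
  · have hX := midFacts_map f midFacts_five
    have hU : Nat.card M.cU = 240 := by
      rw [M.card_cU, Nat.card_congr f.toEquiv, Nat.card_perm, Nat.card_fin]; rfl
    cases b with
    | false => exact (hp.mid_false hX).elim
    | true => exact Or.inr ⟨rfl, Or.inr ⟨hU, hX⟩⟩
  · haveI := isSimple_sl32
    exact absurd f.isSimpleGroup hns
  · haveI : IsSimpleGroup ↥(alternatingGroup (Fin 6)) := alternatingGroup.isSimpleGroup (by simp)
    exact absurd f.isSimpleGroup hns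

end Pattern

end CfsgLib.MTwelveCent
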