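import Mathlib.Data.List.Basic

/-!
Words and image lists for the centraliser of a 2-central involution in the Mathieu group of degree
twelve, and for the `495` conjugates of that involution.
-/
set_option autoImplicit false
set_option maxRecDepth 100000

namespace CfsgLib.MTwelveCent

/-- image list of the symbol `8` -/
def aL : List ℕ := [2,3,1,0,4,17,6,10,18,9,7,22,12,8,23,21,13,14,16,20,15,19,11,5]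

/-- image list of the inverse -/
def aiL : List ℕ := [3,2,0,1,4,23,6,10,13,9,7,22,12,16,17,20,18,5,8,21,19,15,11,14]

/-- image list of the symbol `64` -/
def bL : List ℕ := [1,2,0,3,6,17,8,22,4,16,11,19,9,13,14,7,12,23,18,10,20,21,15,5]

/-- image list of the inverse -/
def biL : List ℕ := [2,0,1,3,8,23,4,15,6,12,19,10,16,13,14,22,9,5,18,11,20,21,7,17]

/-- image list of the involution -/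
def zL : List ℕ := [0,1,2,3,12,5,9,10,16,6,7,22,4,18,14,19,8,17,13,15,21,20,11,23]

/-- the inverse image lists of the six generators -/
def giLs : List (List ℕ) := [[16,2,1,6,12,20,3,11,18,13,19,7,4,9,22,17,0,15,8,10,5,23,14,21],[6,9,13,16,8,14,0,10,4,1,7,19,18,2,5,23,3,21,12,11,22,17,20,15],[18,12,4,13,2,21,9,17,16,6,14,15,1,3,10,11,8,7,0,22,23,5,19,20],[4,9,13,18,0,14,8,21,6,1,17,23,16,2,5,19,12,10,3,15,22,7,20,11],[1,0,16,13,8,7,9,5,4,6,14,20,18,3,10,23,2,21,12,22,11,17,19,15],[16,9,2,3,8,14,0,11,18,13,7,10,12,1,22,21,6,15,4,19,20,17,5,23]]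

/-- words in the symbols `8` (letter `0`) and `64` (letter `1`) -/
def symWords : List (List ℕ) := [
  [], [1,0,0,1,1], [1,1,0,0,1], [1,0,0,1,0,0,1], [0,0], [1,0,0,1,1,0,0], [1,1,0,0,1,0,0], [1,0,1,0,1,0,1,0],
  [0], [1,0,0,1,1,0], [1,1,0,0,1,0], [1,0,1,0,1,0,1], [0,0,0], [0,1,0,0,1,1], [0,1,1,0,0,1], [1,0,1,0,1,0,1,0,0],
  [0,1,1,0,0,0,1,0], [1,0,1,0,1,1,0,0,0], [0,0,0,1,1,0,1,0], [1,0,1,0,1,1,0], [0,1,1,0,1,0,0,0], [1,0,1,1,0,1,0,1], [0,1,1,0,1,0], [0,0,1,0,1,0,1,1,0],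
  [0,0,0,1,1,0,1], [1,0,1,0,1,1], [0,1,1,0,0,0,1], [1,0,1,0,1,1,0,0], [0,1,1,0,1], [0,0,1,0,1,0,1,1], [0,1,1,0,1,0,0], [1,0,1,0,1,0,0,1],
  [1,1,0,0,0,1,0], [1,0,1,1,0,1,1], [1,1,0,1,0], [1,0,0,1,0,1,0], [1,1,0,1,0,0,0], [1,0,0,1,0,1,0,0,0], [0,0,1,1,0,1,0], [0,1,0,1,0,1,1,0],
  [1,1,0,1], [1,0,0,1,0,1], [1,1,0,0,0,1], [1,0,0,1,0,0,0,1], [0,0,1,1,0,1], [0,1,0,1,0,1,1], [1,1,0,1,0,0], [1,0,0,1,0,1,0,0],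
  [1,0,1,1,0,0,0,1,0], [1,0,1,1,0,1,0,0,0], [1,1,0,1,0,1,1,0,0,0], [1,1,0,1,1,0,1,0,1], [1,0,0,0,1,1,0,1,0], [1,0,1,1,0,1,0], [1,1,0,1,0,1,1,0], [1,0,0,1,0,1,0,1,1,0],
  [1,0,0,0,1,1,0,1], [1,0,1,1,0,1], [1,1,0,1,0,1,1], [1,0,0,1,0,1,0,1,1], [1,0,1,1,0,0,0,1], [1,0,1,1,0,1,0,0], [1,1,0,1,0,1,1,0,0], [1,1,0,1,0,1,0,0,1],
  [1], [1,0,0], [1,1,0,0,1,1], [1,1,0,0,1,1,0,0], [0,0,1], [0,0,1,0,0], [1,1,0,0,1,0,0,1], [1,1,0,1,0,1,0,1,0],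
  [1,0], [1,0,0,0], [1,1,0,0,1,1,0], [1,0,1,0,0,1,1], [0,0,1,0], [0,0,1,0,0,0], [1,1,0,1,0,1,0,1], [0,0,1,0,1,0,0,1,1],
  [0,1], [0,0,0,1,0,0], [1,1,0,0,1,0,1], [1,0,1,0,1,0,1,1], [0,0,0,1], [0,1,0,0], [0,1,1,0,0,1,1], [1,1,0,0,1,0,1,0,0],
  [0,0,0,1,0], [0,1,0,0,0], [0,1,1,0,0,1,1,0], [1,1,0,0,1,0,1,0,0,0], [0,1,0], [0,0,0,1,0,0,0], [1,1,0,0,1,0,1,0], [0,1,0,1,0,0,1,1],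
  [1,1], [1,0,0,1], [1,1,0,0], [1,0,0,1,0,0], [0,0,1,1], [0,0,1,0,0,1], [0,0,1,1,0,0], [0,1,0,1,0,1,0],
  [1,1,0], [1,0,0,1,0], [1,1,0,0,0], [1,0,0,1,0,0,0], [0,0,1,1,0], [0,1,0,1,0,1], [0,0,1,1,0,0,0], [0,1,0,1,0,1,0,0],
  [0,1,0,0,0,1,1,0], [0,0,0,1,0,1,1,0], [0,0,0,1,1,0,1,0,1], [1,1,0,1,1,0,1,0], [0,1,0,1,1,0,0,0], [0,1,0,1,1,0], [0,1,1,0,1,0,1], [0,1,1,0,1,0,1,0,0],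
  [0,0,0,1,0,1,1], [0,1,0,0,0,1,1], [1,1,0,1,1,0,1], [1,1,0,1,1,0,1,0,0], [0,1,0,1,1], [0,1,0,1,1,0,0], [0,1,1,0,1,0,1,0], [0,1,0,1,0,0,1],
  [1,0,0,0,1,0], [1,0,1,0], [1,0,1,0,0,0], [1,0,0,0,1,0,0,0], [0,1,1,0,1,1], [0,0,1,0,1,0], [0,0,1,0,1,0,0,0], [0,1,1,0,1,1,0,0],
  [1,0,1], [1,0,0,0,1], [1,0,0,0,1,0,0], [1,0,1,0,0], [0,0,1,0,1], [0,0,1,0,0,0,1], [0,1,1,0,1,1,0], [0,0,1,0,1,0,0],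
  [0,1,1], [0,0,0,1,0,0,1], [0,0,0,1,1,0,0], [1,0,1,0,1,0], [0,0,0,1,1], [0,1,0,0,1], [0,1,1,0,0], [0,0,1,0,1,0,1,0],
  [0,0,0,1,1,0], [1,0,1,0,1], [0,1,1,0,0,0], [0,0,1,0,1,0,1,0,0], [0,1,1,0], [0,0,1,0,1,0,1], [0,0,0,1,1,0,0,0], [1,0,1,0,1,0,0],
  [1,0,0,0,1,1,0], [1,0,1,1,0], [1,1,0,1,0,1], [1,0,0,1,0,1,0,1], [1,0,1,1,0,0,0], [0,0,1,0,1,1,0], [0,0,1,1,0,1,0,1], [1,1,0,1,0,1,0,0],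
  [1,0,1,1], [1,0,0,0,1,1], [1,0,0,0,1,0,0,1], [1,0,1,0,0,1], [0,0,1,0,1,1], [1,0,1,1,0,0], [1,1,0,1,0,1,0], [0,0,1,0,1,0,0,1],
  [1,1,0,1,1], [0,0,0,1,0,1,0], [1,1,0,0,0,1,1], [1,1,0,1,1,0,0], [0,0,1,1,0,1,1], [0,1,0,1,0], [0,1,0,1,0,0,0], [0,0,1,1,0,1,1,0,0],
  [0,0,0,1,0,1], [0,1,0,0,0,1], [1,1,0,1,1,0], [0,0,0,1,0,1,0,0], [0,1,0,1], [0,0,0,1,0,0,0,1], [0,0,1,1,0,1,1,0], [0,1,0,1,0,0]]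

/-- words whose conjugates of the involution are pairwise different -/
def classWords : List (List ℕ) := [
  [], [2,5,2,0], [4,3,2,0], [5,2,3,5,4,2,5,3,0], [5,4,0], [2,5,5,1,2], [3,2,5], [4,1,2,1],
  [2,5,5,4,2], [2,5,3,4], [2,5,5,4,3], [2,5,4,5,2], [2,3,5,2,5,4], [2,3,5,5], [4], [5,4,2,5,3,0],
  [5,3,2,5,2,0], [5,4,5], [4,2,5,2,0], [5,5,2,0,5], [3,5,2,5,4,3,0], [2,5,5,2,0], [5,4,2,3], [3,5,4,2,5],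
  [2,5,3,5,0], [0,5,2,3], [5,5,4,2,1], [1,2,5,5,4], [1,2,5,4], [5,5,2,1,0], [2,3,5,4,3], [5,5,1],
  [5,1], [2,5,2,3,1], [1,2,1], [2,5,4,5,3], [5,2,3,2,1], [3,2,5,5,0], [2,3,5,2,1,0], [4,3,2,5,5,0],
  [2,3,5,2,1], [3,2,5,2,5,4,2,0], [3,2,0], [1,2,5,5,0], [2,5,2,3,1,0], [3,4,3,1], [5,5,2,1], [5,3,4,2],
  [3,1,2,0], [2,3,2,1], [5,5,3,2,1], [2,3,2,1,0], [2,5,2,5], [2,5,4,5,2,1,0], [3,5,4,2], [4,5,2,0],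
  [2,3,4,2], [2,3,1,0], [5,2,5,1,2], [2,5,4,2,0], [5,5,0], [2,5,3,2,5,2,0], [5,3,2,5,5,3], [4,2,5,3,0],
  [2,3,4,1,0], [3,2,5,5,1,2], [4,5,5,2], [5,4,2,5,2,0], [2,3,2,5,4], [5,2,5,5,3], [5,0], [2,5,5,3,4,3],
  [3,2,5,5], [3,2,5,3,5], [3,4,3,0], [1,2,3,5,2,1], [5,1,2,1], [2,5,2,5,2,5,5,3], [3,5,4,3], [1,0],
  [2,3,4,3], [3,2,5,2,5,5,3], [4,2,5,5,2], [5,2,5,5,2], [1,2,5,5], [2,5,2,5,2,5,1,2], [4,3,1,0], [4,5,2,5,5,1],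
  [5,5,4,3], [1,2,5,3,5], [3,1,2,1], [2,3,5,4,2], [2,3,5], [3,2], [5,2,3,5,4], [5,2,5,4,2,0],
  [4,2,3,0], [2,5,3], [5,2,5,5,2,0], [3,2,5,3,4], [4,3,2,5,4], [2,3,4,3,0], [5,2,3,2,1,0], [2,5,2,5,1,2],
  [5,2,5,5,2,5], [2,3], [1,2,1,0], [4,5,2,1], [3,5,5,2,5,4], [4,5,3,0], [3,5,5,4,2], [5,5,2,5,4],
  [1,2,3], [5,3,4,3], [5,2,5,5,4,2,1], [5,2,3,1], [4,5,3], [2,5,3,5,4], [2,3,2,5,2,3,1], [4,2,3,1],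
  [4,0], [4,3,1], [5,1,2,5,5,3], [1,2,5,3,0], [3,2,5,0], [5,2,3,0], [5,3,5,4,2], [5,2,5,4,3,0],
  [5,4,2,3,1,0], [3,2,5,4,5,0], [5,5,2,3,4], [0,5,2,1], [4,1,2,5], [3,5,2,1], [3,5,5,2], [2,3,4,1],
  [3,1,2,5,5,4], [5,2,5,5,2,3,4], [5,5,3,4,3], [4,1,2,0], [3,4,2,0], [5,4,5,2,5,3,0], [5,1,2,5], [0,5,2,5,4],
  [5,5,2,5,3,0], [3,2,5,3,5,0], [2,3,5,5,4,2], [1,2,5,1], [3,1,2,5,0,5], [2,5,4,2,1], [2,5,1,2,1], [5,5,3,4,2],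
  [5,4], [5,4,5,0], [4,3,2,5,5,4], [3,4,2,5,0], [5,3,2,5,5,2,5], [3,1,2,5,5], [3,2,5,1,2], [2,5,4,3,0],
  [5,2,5,2,3,1,2,0], [4,5,5,3], [5,2,3,4,3,0], [3,5,2,0], [3,5,4,2,0], [2,3,4,2,3,0], [2,5,3,2,1], [5,2,3,5,0],
  [4,1], [1,2], [3,5,4,3,2,0], [5,5,2,5,2,0], [3,2,5,0,5], [2,5,3,2,1,0], [2,5,2,5,4,2,0], [5,4,2,3,1],
  [5,2,5,2,0], [2,5,4,2,3,0], [2,5,3,4,2], [2,5,5,2,5], [2,3,5,5,2], [4,5,2,5,2,0], [4,2,5,0], [5,3,4,2,0],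
  [5,3,4,0], [4,2,5], [4,1,2], [2,5,0], [1], [3,5,4,3,0], [0,5,2,3,1], [3,5,5,2,5,4,3,0],
  [5,3,5,2,5,4,3,0], [2,5], [2,5,2,3,1,2,0], [3,4,2,5,3,0], [0,5], [5,2,5,4], [5,5,2,3,1,2], [2,5,4,2,1,0],
  [5,2,0,5], [5,5,2,5,4,3,0], [5,2,3,5,4,2], [3,5,4,5], [1,2,5,4,0], [3,5,4,2,3,0], [5,5,1,2,5,3,0], [1,2,5,0],
  [2,3,1,2,0], [2,5,5,1], [2,5,2,1,0], [4,2,5,5], [3,2,5,5,3], [4,5], [4,5,2], [3,5,4,5,2],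
  [2,3,2], [3,4,2,3,1], [2,5,3,5,4,2], [4,2,5,2,1], [2,5,5,4], [5,2,5,2,5,1,2], [5,5,2,5,2,3,2,1], [2,5,0,5],
  [3,1,2,5,5,0], [5,5,2,5,5,2,1,0], [2,3,4,3,1], [5,4,2,3,0], [1,2,5], [3,5,5,4], [3,4,3,2,0], [2,5,2,5,5,1],
  [3,5,2,1,0], [0,5,2,5,5,3], [5,4,2,1], [1,2,0], [5,5,3,2,5,2,0], [2], [5,5,1,2,1], [5,0,5,2,1],
  [5,2,5,2,5,5,3], [5,3,5,0], [5,3,2,1], [1,2,5,0,5], [2,0,5], [4,5,2,1,0], [5,4,5,2], [5,3,5],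
  [5,2,5,3,5,0], [3,4,2,5], [3,1,2,5,4], [2,5,2,1], [2,5,5,0], [4,5,2,3], [5,4,5,2,0], [2,3,4,0],
  [4,3,2], [4,2,5,3], [4,3,2,5,3,4], [1,2,5,5,1], [5,2,3,1,2,0], [5,2,5,2,3,1,0], [3,2,5,4], [3,4,2,5,3],
  [2,3,0], [5,2,5,2,3,2,1], [5,3,2,5,1,2], [4,3], [2,3,4,2,0], [3,4,3,2], [3,4,3], [3,5],
  [3,1,2,5,5,1], [2,3,5,4,2,5,3,0], [5,3,4,2,5,3,0], [5,2,3,1,0], [3,5,2,3,1,0], [4,5,2,5,3,0], [1,2,5,5,1,2], [5,5,2,3,1,0],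
  [2,5,4], [5], [5,2], [5,5,2,3,5,0], [5,5,2,3,2,1], [4,1,2,3], [5,3,4,2,3], [4,1,2,1,0],
  [3,5,4], [5,3], [5,5,2,5], [5,3,0], [5,2,1], [2,5,2,5,5,3], [5,3,5,2,5,4], [4,5,2,3,1],
  [4,2,3], [4,2,1,0], [5,4,2,0], [5,5,3,2,5], [5,5,2,0], [5,2,5,5,2,1,0], [1,2,5,5,3], [3,5,2,5,1,2],
  [4,5,2,3,1,0], [3,2,1,0], [3,1,2,1,0], [3,5,2,5,2,0], [3,2,5,2,3,1], [5,5,1,2], [5,2,1,0], [5,3,4,2,3,0],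
  [5,4,2], [2,5,5,3], [3,5,4,0], [4,5,0], [2,5,5,2,5,5,4,2,1], [5,3,4], [2,3,4], [4,3,2,5,5],
  [2,3,5,5,4], [5,4,2,5,5], [5,5,2,3,4,2], [1,2,3,5,2,1,0], [5,4,2,1,0], [4,1,0], [3,4,0], [2,5,5,4,2,1],
  [4,2,1], [4,5,5], [2,5,4,0], [3,2,5,2,3,0], [3,2,5,5,2], [2,3,5,4], [1,2,5,5,2], [5,2,3,4,0],
  [2,5,5,2,3,4], [5,3,5,4], [1,2,5,5,2,0], [5,4,5,2,1,0], [5,5,2,5,5,4,2,1], [4,2,5,2,1,0], [2,5,4,5], [2,5,2,3,4,2],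
  [1,2,5,3,2,1], [5,3,2,5,2,5,5,3], [2,5,4,3], [3,1,0], [2,5,5,2], [5,2,3,5,2,5,4], [3,5,5], [5,2,5,5,1],
  [2,5,2,3,4,0], [3,2,5,5,1], [3,2,1], [2,3,4,2,3], [4,1,2,5,5], [4,3,0], [2,5,2,5,4], [4,5,2,5,5],
  [3,5,2,5,5,3], [2,5,3,4,3], [5,2,3,5,5], [2,5,3,2,5,4], [3,2,5,2,5,2,5,5,3], [5,2,5,5,1,2], [5,4,3], [2,5,3,5],
  [2,5,2,3,0], [5,3,2,1,0], [5,4,5,3], [3,1,2,5,5,3], [2,5,5], [3,5,0], [3,2,5,1], [2,3,5,0],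
  [2,5,4,5,2,0], [5,2,5,2,5,4,2,0], [5,4,3,2,0], [5,5,3], [1,2,3,2,1], [5,0,5], [3,5,2,5,5,2,5], [3,2,5,5,4],
  [5,2,3,4,2], [3,4,1,2,3], [5,1,2,5,5,2], [5,4,2,5], [1,2,3,1,0], [5,1,2,5,5], [3,2,5,3,0], [1,2,5,3,2,1,0],
  [1,2,3,5,5], [4,3,2,5,1], [5,4,3,0], [2,3,1,2,5,5], [5,5,4,2,5,3,0], [5,2,3,4], [5,3,4,3,0], [5,2,3],
  [5,2,3,2], [5,5,2,5,1,2], [2,5,4,5,0], [5,3,4,2,5], [5,3,2,5,2,5,4,2,0], [3,1,2,5,5,2], [2,5,3,0], [2,5,1,2],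
  [2,3,4,3,1,0], [2,5,5,2,5,3,0], [4,2,3,1,0], [2,5,2,3,2,1], [5,5,4], [5,5,2], [5,2,5,1,2,1], [5,2,3,1,2],
  [4,5,2,5,1,2], [1,2,3,1], [3,4,3,1,0], [3,2,5,5,2,5], [3,5,4,2,5,3,0], [5,5], [2,5,1], [3,5,2,5,3,5,0],
  [5,2,5,5], [3,4], [3,4,2], [2,0,5,2,3,1], [5,5,4,2], [5,5,1,2,5], [2,3,5,2,5,2,0], [4,1,2,5,0],
  [3,4,2,3,1,0], [1,2,5,4,3,0], [5,2,5,4,5], [2,3,1,2,1,0], [2,3,1,2,1], [3,4,2,3,0], [3,4,2,3], [5,3,5,2,1],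
  [4,3,1,2,0], [3,4,1], [5,2,5], [4,5,5,2,1], [2,5,0,5,2,1], [5,2,0], [2,3,4,3,2], [5,3,2,5,4],
  [3,5,2,5,4], [3,4,1,0], [4,1,2,3,1], [2,5,5,2,1,0], [2,1], [3,5,5,2,1], [3,0], [2,3,4,3,2,0],
  [3], [5,1,2], [2,1,0], [4,3,1,2], [4,2,0], [5,4,5,2,1], [4,2], [5,3,2,5],
  [5,2,5,0,5], [4,5,2,3,0], [3,1], [0], [3,5,4,2,3], [4,3,2,5,0], [3,2,5,2,3,2,1], [2,3,1],
  [4,1,2,5,3,0], [5,2,5,4,5,3], [2,3,5,4,5,3], [5,1,2,3,1], [5,1,2,5,3,0], [3,1,2], [2,0], [2,3,5,2,3,1],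
  [5,2,5,2,5], [3,2,5,4,3], [3,5,4,5,3], [4,2,5,3,5], [4,2,5,2,3,0], [5,2,5,3,0], [1,2,5,4,5,2], [3,5,2,3,1],
  [5,3,5,4,2,5], [1,2,3,2,1,0], [3,2,5,2,0], [5,5,2,3,4,0], [4,5,3,5], [3,2,5,4,3,0], [2,3,1,2]]

end CfsgLib.MTwelveCent
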