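import Cfsg.Agent.Lib.MTwelveCent.Model
import Cfsg.Agent.Lib.MTwelveCent.WordData
import Cfsg.Agent.Lib.MathieuTwelve.Model
import Cfsg.Prelude.Def_SporadicB
import Mathlib.GroupTheory.Sylow

/-!
The centraliser of a 2-central involution of the Mathieu group of degree twelve is given by the table.
-/
set_option autoImplicit false
set_option maxRecDepth 100000

namespace CfsgLib.MTwelveCent

open Cfsg CfsgLib.Golay CfsgLib.Presented CfsgLib.Schur.GolaySearch CfsgLib.Schur.GolayOut
  CfsgLib.Schur.OutM12 CfsgLib.MathieuTwelve

/-- the permutation of the symbol `8` -/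
def pA : Equiv.Perm GolayPt :=
  ⟨imgFun aL, imgFun aiL, by decide +kernel, by decide +kernel⟩

/-- the permutation of the symbol `64` -/
def pB : Equiv.Perm GolayPt :=
  ⟨imgFun bL, imgFun biL, by decide +kernel, by decide +kernel⟩

/-- the involution -/
def pZ : Equiv.Perm GolayPt :=
  ⟨imgFun zL, imgFun zL, by decide +kernel, by decide +kernel⟩

/-- the two letters -/
def symEv (k : ℕ) : Equiv.Perm GolayPt := if k = 0 then pA else pB

/-- the image list of a letter -/
def symL (k : ℕ) : List ℕ := if k = 0 then aL else bL

/-- the image list of a word in the two letters -/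
def wordL (w : List ℕ) : List ℕ := w.foldr (fun k l => comp (symL k) l) (List.range 24)

theorem toList_letters : toList pA = aL ∧ toList pB = bL ∧ toList pZ = zL := by decide +kernel

theorem toList_word : ∀ w : List ℕ, toList (evW symEv w) = wordL w
  | [] => by rw [evW_nil, toList_one]; rfl
  | k :: w => by
    rw [evW_cons, toList_mul, toList_word w]
    show _ = comp (symL k) (wordL w)
    congr 1
    unfold symEv symL
    split_ifs
    exacts [toList_letters.1, toList_letters.2.1]

/-- the permutation of a symbol -/
def symPerm (i : Fin 192) : Equiv.Perm GolayPt := evW symEv (symWords.getD i.val [])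

/-- the symbol of a letter -/
def letterSym (k : ℕ) : Fin 192 := if k = 0 then 8 else 64

/-- the symbol of a word -/
def wordSym (w : List ℕ) : Fin 192 := w.foldr (fun k r => fmul (letterSym k) r) 0

theorem symWords_ok : ∀ i : Fin 192, wordSym (symWords.getD i.val []) = i ∧ fmul 0 i = i ∧
    (wordL (symWords.getD i.val []) = List.range 24 → i = 0) := by
  decide +kernel

theorem letters_ok : (all192 fun j =>
    comp aL (wordL (symWords.getD j [])) == wordL (symWords.getD (mulN 8 j) []) &&
      comp bL (wordL (symWords.getD j [])) == wordL (symWords.getD (mulN 64 j) [])) = true := by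
  decide +kernel

theorem symPerm_letter (k : ℕ) (j : Fin 192) :
    symPerm (fmul (letterSym k) j) = symEv k * symPerm j := by
  apply toList_injective
  have h := all192_spec letters_ok j.isLt
  simp only [Bool.and_eq_true, beq_iff_eq] at h
  rw [toList_mul, symPerm, symPerm, toList_word, toList_word]
  unfold letterSym symEv
  split_ifs
  · rw [toList_letters.1]; exact h.1.symm
  · rw [toList_letters.2.1]; exact h.2.symm

theorem fmul_assoc_letter (k : ℕ) (r j : Fin 192) :
    fmul (fmul (letterSym k) r) j = fmul (letterSym k) (fmul r j) := by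
  have h := all192_two (P := fun i j =>
    mulN (mulN 8 i) j == mulN 8 (mulN i j) && mulN (mulN 64 i) j == mulN 64 (mulN i j))
    assoc_ok r.isLt j.isLt
  simp only [Bool.and_eq_true, beq_iff_eq] at h
  apply Fin.ext
  unfold letterSym
  split_ifs
  exacts [h.1, h.2]

theorem symPerm_mul (i j : Fin 192) : symPerm (fmul i j) = symPerm i * symPerm j := by
  have key : ∀ w : List ℕ, symPerm (fmul (wordSym w) j) = evW symEv w * symPerm j := by
    intro w
    induction w with
    | nil => rw [evW_nil, one_mul]; exact congrArg symPerm (symWords_ok j).2.1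
    | cons k w ih =>
      show symPerm (fmul (fmul (letterSym k) (wordSym w)) j) = _
      rw [fmul_assoc_letter, symPerm_letter, ih, evW_cons, mul_assoc]
  have := key (symWords.getD i.val [])
  rwa [(symWords_ok i).1] at this

theorem symPerm_injective : Function.Injective symPerm := by
  have h0 : symPerm 0 = 1 := by
    have h := symPerm_mul 0 0
    rw [(symWords_ok 0).2.1] at h
    simpa using h
  have hinv : ∀ i : Fin 192, ∃ j : Fin 192, fmul j i = 0 := by decide +kernel
  have hcancel : ∀ c a b : Fin 192, fmul (fmul c a) b = fmul c (fmul a b) := by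
    intro c a b
    have key : ∀ w : List ℕ, fmul (fmul (wordSym w) a) b = fmul (wordSym w) (fmul a b) := by
      intro w
      induction w with
      | nil =>
        show fmul (fmul 0 a) b = fmul 0 (fmul a b)
        rw [(symWords_ok a).2.1, (symWords_ok _).2.1]
      | cons k w ih =>
        show fmul (fmul (fmul (letterSym k) (wordSym w)) a) b =
          fmul (fmul (letterSym k) (wordSym w)) (fmul a b)
        rw [fmul_assoc_letter, fmul_assoc_letter, ih, fmul_assoc_letter]
    have := key (symWords.getD c.val [])
    rwa [(symWords_ok c).1] at this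
  intro a b hab
  obtain ⟨b', hb⟩ := hinv b
  have h2 : fmul b' a = 0 := by
    refine (symWords_ok _).2.2 ?_
    rw [← toList_word]
    refine Eq.trans (congrArg toList ?_) toList_one
    show symPerm (fmul b' a) = 1
    rw [symPerm_mul, hab, ← symPerm_mul, hb, h0]
  obtain ⟨b'', hb''⟩ := hinv b'
  have h3 : fmul b'' (fmul b' a) = fmul b'' (fmul b' b) := by rw [h2, hb]
  rwa [← hcancel, ← hcancel, hb'', (symWords_ok a).2.1, (symWords_ok b).2.1] at h3

theorem pieces_side : inG side12 aL = true ∧ inG side12 bL = true ∧ inG side12 zL = true := by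
  decide +kernel

theorem mem_of_inG {σ : Equiv.Perm GolayPt} {l : List ℕ} (h : toList σ = l)
    (hs : inG side12 l = true) : σ ∈ Cfsg.Spor.M12 := by
  rw [← h] at hs
  simp only [inG, Bool.and_eq_true] at hs
  rw [mem_M12_side, mem_M24_iff_isPres]
  exact hs

theorem symPerm_mem (i : Fin 192) : symPerm i ∈ Cfsg.Spor.M12 := by
  refine list_prod_mem fun x hx => ?_
  obtain ⟨k, -, rfl⟩ := List.mem_map.1 hx
  unfold symEv
  split_ifs
  · exact mem_of_inG toList_letters.1 pieces_side.1
  · exact mem_of_inG toList_letters.2.1 pieces_side.2.1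

/-- a symbol as an element of the Mathieu group -/
def symM (i : Fin 192) : ↥Cfsg.Spor.M12 := ⟨symPerm i, symPerm_mem i⟩

theorem symM_mul (i j : Fin 192) : symM (fmul i j) = symM i * symM j :=
  Subtype.ext (symPerm_mul i j)

theorem symM_injective : Function.Injective symM := fun _ _ h =>
  symPerm_injective (congrArg Subtype.val h)

/-- the involution as an element of the Mathieu group -/
def zM : ↥Cfsg.Spor.M12 := symM 7

theorem toList_zM : toList zM.1 = zL := by
  show toList (symPerm 7) = zL
  rw [symPerm, toList_word]
  decide +kernel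

/-- the image list of a generator -/
def genL (k : ℕ) : List ℕ := [pzL, paL, pbL, pcL, pdL, pgL].getD k (List.range 24)

/-- conjugating an image list along a word -/
def conjL (w : List ℕ) : List ℕ :=
  w.foldr (fun k l => comp (genL k) (comp l (giLs.getD k (List.range 24)))) zL

theorem gen_lists : ∀ k : Fin 6, toList (modelEv k.val) = genL k.val ∧
    toList (modelEv k.val)⁻¹ = giLs.getD k.val (List.range 24) := by
  decide +kernel

theorem classWords_lt : (classWords.all fun w => w.all fun k => decide (k < 6)) = true := by
  decide +kernel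

theorem conjL_spec : ∀ w : List ℕ, (∀ k ∈ w, k < 6) → ∃ g : ↥Cfsg.Spor.M12,
    toList (g * zM * g⁻¹).1 = conjL w
  | [], _ => ⟨1, by rw [one_mul, inv_one, mul_one]; exact toList_zM⟩
  | k :: w, h => by
    obtain ⟨g, hg⟩ := conjL_spec w fun j hj => h j (List.mem_cons_of_mem _ hj)
    have hk : k < 6 := h k (by simp)
    have hm : modelEv k ∈ Cfsg.Spor.M12 := by
      refine model_mem _ ?_
      interval_cases k <;> simp [modelEv, evSix]
    refine ⟨⟨modelEv k, hm⟩ * g, ?_⟩
    have e : (⟨modelEv k, hm⟩ * g) * zM * (⟨modelEv k, hm⟩ * g)⁻¹ =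
        ⟨modelEv k, hm⟩ * ((g * zM * g⁻¹) * ⟨modelEv k, hm⟩⁻¹) := by
      simp [mul_inv_rev, mul_assoc]
    rw [e, Subgroup.coe_mul, Subgroup.coe_mul, Subgroup.coe_inv, toList_mul, toList_mul, hg,
      (gen_lists ⟨k, hk⟩).1, (gen_lists ⟨k, hk⟩).2]
    rfl

/-- a key of an image list -/
def listKey (l : List ℕ) : ℕ := l.foldl (fun n x => 24 * n + x) 0

/-- adjacent entries increase -/
def incB : List ℕ → Bool
  | a :: b :: l => decide (a < b) && incB (b :: l)
  | _ => true

theorem incB_pairwise : ∀ {l : List ℕ}, incB l = true → l.Pairwise (· < ·)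
  | [], _ => List.Pairwise.nil
  | [_], _ => by simp
  | a :: b :: l, h => by
    simp only [incB, Bool.and_eq_true, decide_eq_true_eq] at h
    have hp := incB_pairwise h.2
    refine List.pairwise_cons.2 ⟨fun x hx => ?_, hp⟩
    rcases List.mem_cons.1 hx with rfl | hx
    · exact h.1
    · exact h.1.trans ((List.pairwise_cons.1 hp).1 x hx)

theorem classKeys_ok : classWords.length = 495 ∧
    incB (classWords.map fun w => listKey (conjL w)) = true := by
  decide +kernel

theorem class_card_ge : 495 ≤ Nat.card {x : ↥Cfsg.Spor.M12 // IsConj zM x} := by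
  classical
  have hw : ∀ i : Fin classWords.length, ∀ k ∈ classWords[i.val], k < 6 := fun i k hk =>
    of_decide_eq_true (List.all_eq_true.1 (List.all_eq_true.1 classWords_lt _
      (List.getElem_mem i.isLt)) k hk)
  choose g hg using fun i : Fin classWords.length => conjL_spec classWords[i.val] (hw i)
  have hinj : Function.Injective (fun i : Fin classWords.length =>
      (⟨g i * zM * (g i)⁻¹, isConj_iff.2 ⟨g i, rfl⟩⟩ : {x : ↥Cfsg.Spor.M12 // IsConj zM x})) := by
    intro i j hij
    have hl : conjL classWords[i.val] = conjL classWords[j.val] := by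
      rw [← hg i, ← hg j]
      exact congrArg (fun x : {x : ↥Cfsg.Spor.M12 // IsConj zM x} => toList x.1.1) hij
    have hp := List.nodup_iff_injective_getElem.1 (incB_pairwise classKeys_ok.2).nodup
    have hlen : (classWords.map fun w => listKey (conjL w)).length = classWords.length :=
      List.length_map _
    have h3 := @hp ⟨i.val, by rw [hlen]; exact i.isLt⟩ ⟨j.val, by rw [hlen]; exact j.isLt⟩
      (by simp [hl])
    exact Fin.ext (congrArg Fin.val h3)
  have h := Nat.card_le_card_of_injective _ hinj
  rw [Nat.card_eq_fintype_card, Fintype.card_fin, classKeys_ok.1] at h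
  exact h

end CfsgLib.MTwelveCent
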