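import Cfsg.Agent.Lib.MTwelveCent.Bridge
import Cfsg.Agent.Lib.Golay.Mathieu
import Mathlib.GroupTheory.GroupAction.ConjAct
import Mathlib.GroupTheory.Index

/-!
The model of the centraliser, transported to a group with an isomorphic involution centraliser.
-/
set_option autoImplicit false
set_option maxRecDepth 100000

namespace CfsgLib.MTwelveCent

open Cfsg CfsgLib.Golay

theorem card_class_mul_card_centralizer {G : Type*} [Group G] [Finite G] (x : G) :
    Nat.card {y : G // IsConj x y} * Nat.card (Subgroup.centralizer ({x} : Set G)) = Nat.card G := by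
  have h1 : Nat.card {y : G // IsConj x y} = Nat.card (MulAction.orbit (ConjAct G) x) :=
    Nat.card_congr (Equiv.subtypeEquivRight fun y => by
      rw [ConjAct.mem_orbit_conjAct, isConj_comm])
  have h2 : Nat.card (Subgroup.centralizer ({x} : Set G)) =
      Nat.card (MulAction.stabilizer (ConjAct G) x) := by
    refine Nat.card_congr (Equiv.subtypeEquiv ConjAct.toConjAct.toEquiv fun g => ?_)
    rw [MulAction.mem_stabilizer_iff, Subgroup.mem_centralizer_singleton_iff]
    show g * x = x * g ↔ g * x * g⁻¹ = x
    rw [mul_inv_eq_iff_eq_mul]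
  rw [h1, h2, Nat.card_coe_set_eq, ← MulAction.index_stabilizer, Subgroup.index_mul_card]
  exact Nat.card_congr ConjAct.ofConjAct.toEquiv

theorem symM_zero : symM 0 = 1 := by
  have h := symM_mul 0 0
  rw [show fmul 0 0 = 0 from by decide +kernel] at h
  simpa using h

theorem centralizer_zM (g : ↥Cfsg.Spor.M12) (h : g * zM = zM * g) : ∃ i, symM i = g := by
  classical
  have hC := card_class_mul_card_centralizer zM
  rw [natCard_sporM12] at hC
  have hle : Nat.card (Subgroup.centralizer ({zM} : Set ↥Cfsg.Spor.M12)) ≤ 192 := by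
    have := class_card_ge
    nlinarith
  have hcom : ∀ i, symM i * zM = zM * symM i := by
    intro i
    show symM i * symM 7 = symM 7 * symM i
    rw [← symM_mul, ← symM_mul]
    congr 1
    have := all192_spec typ_ok i.isLt
    simp only [Bool.and_eq_true, comN, beq_iff_eq] at this
    exact Fin.ext this.2
  let f : Fin 192 → Subgroup.centralizer ({zM} : Set ↥Cfsg.Spor.M12) := fun i =>
    ⟨symM i, Subgroup.mem_centralizer_singleton_iff.2 (hcom i)⟩
  have hf : Function.Injective f := fun a b hab => symM_injective (congrArg Subtype.val hab)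
  have hb : Function.Bijective f := hf.bijective_of_nat_card_le (by simpa using hle)
  obtain ⟨i, hi⟩ := hb.2 ⟨g, Subgroup.mem_centralizer_singleton_iff.2 h⟩
  exact ⟨i, congrArg Subtype.val hi⟩

theorem zM_ne_one : zM ≠ 1 := by
  intro h
  exact absurd (symM_injective (h.trans symM_zero.symm) : (7 : Fin 192) = 0) (by decide)

theorem centre_eq {i : Fin 192} (h : ∀ j : Fin 192, inS j = true → symM i * symM j = symM j * symM i) :
    i = 0 ∨ i = 7 := by
  have hh := all192_spec centre_ok i.isLt
  simp only [Bool.or_eq_true, beq_iff_eq, List.any_eq_true, Bool.and_eq_true, List.mem_range] at hh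
  rcases hh with (h0 | h7) | ⟨j, hj, hS, hc⟩
  · exact Or.inl (Fin.ext h0)
  · exact Or.inr (Fin.ext h7)
  · exfalso
    have e := h ⟨j, hj⟩ hS
    rw [← symM_mul, ← symM_mul] at e
    have e' := congrArg Fin.val (symM_injective e)
    simp [comN, fmul_val] at hc e'
    exact hc e'

theorem isConj_zM {u : ↥Cfsg.Spor.M12} (hu : Cfsg.IsTwoCentralInvolution u) : IsConj zM u := by
  classical
  haveI : Fact (Nat.Prime 2) := ⟨Nat.prime_two⟩
  obtain ⟨hord, P, huP, hcom⟩ := hu
  obtain ⟨S, hSc, hSm⟩ : ∃ S : Subgroup ↥Cfsg.Spor.M12, Nat.card S = 64 ∧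
      ∀ j : Fin 192, inS j = true → symM j ∈ S := by
    let S : Subgroup ↥Cfsg.Spor.M12 :=
      { carrier := {g | ∃ j : Fin 192, inS j = true ∧ symM j = g}
        one_mem' := ⟨0, inS_facts.2.1, symM_zero⟩
        mul_mem' := by
          rintro a b ⟨i, hi, rfl⟩ ⟨j, hj, rfl⟩
          refine ⟨fmul i j, ?_, symM_mul i j⟩
          have := all192_two (P := fun i j => !inS i || !inS j || inS (mulN i j)) inS_closed
            i.isLt j.isLt
          simpa [hi, hj, fmul_val] using this
        inv_mem' := by
          rintro a ⟨i, hi, rfl⟩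
          obtain ⟨j, hj, e⟩ := (by decide +kernel : ∀ i : Fin 192, inS i.val = true →
            ∃ j : Fin 192, inS j.val = true ∧ fmul j i = 0) i hi
          refine ⟨j, hj, eq_inv_of_mul_eq_one_left ?_⟩
          rw [← symM_mul, e, symM_zero] }
    refine ⟨S, ?_, fun j hj => ⟨j, hj, rfl⟩⟩
    have e : {j : Fin 192 // inS j.val = true} ≃ S := Equiv.ofBijective
      (fun j => ⟨symM j.1, ⟨j.1, j.2, rfl⟩⟩)
      ⟨fun a b h => Subtype.ext (symM_injective (congrArg Subtype.val h)),
        fun ⟨g, j, hj, h⟩ => ⟨⟨j, hj⟩, Subtype.ext h⟩⟩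
    rw [← Nat.card_congr e, Nat.card_eq_fintype_card, Fintype.card_subtype]
    decide +kernel
  have hP : Nat.card S = 2 ^ (Nat.card ↥Cfsg.Spor.M12).factorization 2 := by
    rw [hSc, natCard_sporM12]
    have h2 : (95040 : ℕ).factorization 2 = 6 := by
      rw [show (95040 : ℕ) = 2 ^ 6 * 1485 from rfl, Nat.factorization_mul (by norm_num) (by norm_num),
        Finsupp.add_apply, Nat.Prime.factorization_pow Nat.prime_two, Finsupp.single_eq_same,
        Nat.factorization_eq_zero_of_not_dvd (by norm_num), add_zero]
    rw [h2]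
    rfl
  obtain ⟨g, hg⟩ := MulAction.exists_smul_eq ↥Cfsg.Spor.M12 (Sylow.ofCard S hP) P
  have hmem : ∀ j : Fin 192, inS j = true → g * symM j * g⁻¹ ∈ P := by
    intro j hj
    have h1 : symM j ∈ (Sylow.ofCard S hP : Subgroup ↥Cfsg.Spor.M12) := hSm j hj
    have h2 := Subgroup.smul_mem_pointwise_smul _ (MulAut.conj g) _ h1
    rw [← hg]
    exact h2
  have hv : ∀ j : Fin 192, inS j = true → (g⁻¹ * u * g) * symM j = symM j * (g⁻¹ * u * g) := by
    intro j hj
    have := congrArg (fun x => g⁻¹ * x * g) (hcom _ (hmem j hj))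
    simp only [mul_assoc, inv_mul_cancel_left, inv_mul_cancel, mul_one] at this ⊢
    exact this.symm
  obtain ⟨i, hi⟩ := centralizer_zM (g⁻¹ * u * g) (hv 7 inS_facts.2.2.1)
  rcases centre_eq (i := i) (fun j hj => by rw [hi]; exact hv j hj) with rfl | rfl
  · exfalso
    have h1 : u = 1 := by
      have := congrArg (fun x => g * x * g⁻¹) hi.symm
      simpa [symM_zero, mul_assoc] using this
    rw [h1, orderOf_one] at hord
    exact absurd hord (by norm_num)
  · exact isConj_iff.2 ⟨g, by rw [show zM = g⁻¹ * u * g from hi]; simp [mul_assoc]⟩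

/-- a group with an involution whose centraliser is isomorphic to that of a 2-central involution
of the Mathieu group of degree twelve has a model -/
theorem exists_model {G : Type*} [Group G] {u : ↥Cfsg.Spor.M12}
    (hu : Cfsg.IsTwoCentralInvolution u) {t : G} (ht : orderOf t = 2)
    (e : ↥(Subgroup.centralizer ({t} : Set G)) ≃* ↥(Subgroup.centralizer ({u} : Set ↥Cfsg.Spor.M12))) :
    Nonempty (Model G t) := by
  obtain ⟨g, rfl⟩ := isConj_iff.1 (isConj_zM hu)
  have hmem : ∀ i, g * symM i * g⁻¹ ∈
      Subgroup.centralizer ({g * zM * g⁻¹} : Set ↥Cfsg.Spor.M12) := by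
    intro i
    rw [Subgroup.mem_centralizer_singleton_iff]
    have h : symM i * zM = zM * symM i := by
      show symM i * symM 7 = symM 7 * symM i
      rw [← symM_mul, ← symM_mul]
      congr 1
      have := all192_spec typ_ok i.isLt
      simp only [Bool.and_eq_true, comN, beq_iff_eq] at this
      exact Fin.ext this.2
    simp only [mul_assoc, inv_mul_cancel_left]
    rw [← mul_assoc (symM i), h, mul_assoc]
  let f : Fin 192 → ↥(Subgroup.centralizer ({t} : Set G)) := fun i => e.symm ⟨_, hmem i⟩
  have hf : Function.Bijective f := by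
    refine ⟨fun a b hab => symM_injective ?_, fun x => ?_⟩
    · have := congrArg Subtype.val (e.symm.injective hab)
      exact mul_left_cancel (mul_right_cancel this)
    · have hx := Subgroup.mem_centralizer_singleton_iff.1 (e x).2
      obtain ⟨i, hi⟩ := centralizer_zM (g⁻¹ * (e x).1 * g) (by
        have := congrArg (fun y => g⁻¹ * y * g) hx
        simp only [mul_assoc, inv_mul_cancel_left, inv_mul_cancel, mul_one] at this ⊢
        exact this)
      refine ⟨i, e.injective ?_⟩
      rw [MulEquiv.apply_symm_apply]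
      apply Subtype.ext
      show g * symM i * g⁻¹ = _
      rw [hi]
      simp [mul_assoc]
  have hmul : ∀ i j, f (fmul i j) = f i * f j := by
    intro i j
    rw [← map_mul e.symm]
    refine congrArg e.symm (Subtype.ext ?_)
    show g * symM (fmul i j) * g⁻¹ = g * symM i * g⁻¹ * (g * symM j * g⁻¹)
    rw [symM_mul]
    simp [mul_assoc]
  have ht' : t ∈ Subgroup.centralizer ({t} : Set G) := Subgroup.mem_centralizer_singleton_iff.2 rfl
  have h7 : (f 7).1 = t := by
    obtain ⟨i, hi⟩ := hf.2 ⟨t, ht'⟩
    have hc : ∀ j : Fin 192, inS j = true → symM i * symM j = symM j * symM i := by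
      intro j _
      have hcm : f i * f j = f j * f i := by
        rw [hi]
        exact Subtype.ext (Subgroup.mem_centralizer_singleton_iff.1 (f j).2).symm
      rw [← hmul, ← hmul] at hcm
      rw [← symM_mul, ← symM_mul, hf.1 hcm]
    rcases centre_eq hc with rfl | rfl
    · exfalso
      have h0 : f 0 = 1 := by
        have := hmul 0 0
        rw [show fmul 0 0 = 0 from by decide +kernel] at this
        simpa using this
      rw [h0] at hi
      have h1 : t = 1 := (congrArg Subtype.val hi).symm
      rw [h1, orderOf_one] at ht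
      exact absurd ht (by norm_num)
    · rw [hi]
  exact ⟨{
    el := fun i => (f i).1
    inj := fun a b h => hf.1 (Subtype.ext h)
    map_mul := fun i j => congrArg Subtype.val (hmul i j)
    map_seven := h7
    mem_iff := fun x => ⟨fun hx => by
        obtain ⟨i, hi⟩ := hf.2 ⟨x, Subgroup.mem_centralizer_singleton_iff.2 hx⟩
        exact ⟨i, congrArg Subtype.val hi⟩,
      fun ⟨i, hi⟩ => hi ▸ Subgroup.mem_centralizer_singleton_iff.1 (f i).2⟩ }⟩

end CfsgLib.MTwelveCent
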