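import Cfsg.Agent.Lib.MTwelveCent.Fusion
import Mathlib.GroupTheory.SpecificGroups.Dihedral
import Mathlib.GroupTheory.QuotientGroup.Basic

/-!
The centraliser `U` of the second representative `c`: its Sylow 2-subgroup, and the quotient by `⟨c⟩`,
in which the image of `t` has a centraliser dihedral of order eight.
-/
set_option autoImplicit false
set_option maxRecDepth 100000

namespace CfsgLib.MTwelveCent

attribute [local irreducible] mulN typ cntN inS inQ all192

theorem inD_closed : (all192 fun i => all192 fun j => !inD i || !inD j || inD (mulN i j)) = true := by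
  decide +kernel

theorem inD_root : ∃ s : Fin 192, inD s.val = true ∧ mulN s s = 7 := by decide +kernel

theorem inD_squares' : ∀ q : Fin 192, inD q.val = true → mulN q q = 0 ∨ mulN q q = 7 := by
  decide +kernel

theorem dihCode_lt : ∀ q : Fin 192, dihCode q < 8 := by decide +kernel

/-- decoding into the dihedral group -/
def dec (x : ℕ) : DihedralGroup 4 := if x < 4 then .r x else .sr ((x - 4 : ℕ) : ZMod 4)

theorem dec_mul : ∀ x : Fin 8, ∀ y : Fin 8, dec (dihMul x y) = dec x * dec y := by decide +kernel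

theorem dec_eq_one : ∀ x : Fin 8, dec x = 1 ↔ x.val = 0 := by decide +kernel

theorem dec_onto : ∀ z : DihedralGroup 4, ∃ x : Fin 8, dec x = z := by decide +kernel

theorem mem_zpowers_of_sq {G : Type*} [Group G] {c x : G} (hc : c * c = 1)
    (hx : x ∈ Subgroup.zpowers c) : x = 1 ∨ x = c := by
  obtain ⟨k, rfl⟩ := Subgroup.mem_zpowers_iff.1 hx
  rcases Int.even_or_odd k with ⟨j, rfl⟩ | ⟨j, rfl⟩
  · left; rw [← two_mul, zpow_mul, zpow_two, hc, one_zpow]
  · right; rw [zpow_add, zpow_mul, zpow_two, hc, one_zpow, one_mul, zpow_one]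

theorem commute_of_mem_zpowers_mul {G : Type*} [Group G] {u v w : G} (hu : u * u = 1) (hv : v * v = 1)
    (hw : w * w = 1) (h : w ∈ Subgroup.zpowers (u * v)) : u * w = w * u ∧ v * w = w * v := by
  obtain ⟨k, rfl⟩ := Subgroup.mem_zpowers_iff.1 h
  have hu' : u⁻¹ = u := inv_eq_of_mul_eq_one_right hu
  have hv' : v⁻¹ = v := inv_eq_of_mul_eq_one_right hv
  have hinv : ((u * v) ^ k)⁻¹ = (u * v) ^ k := inv_eq_of_mul_eq_one_right hw
  have key : ∀ g : G, g * (u * v) * g⁻¹ = (u * v)⁻¹ → g * (u * v) ^ k = (u * v) ^ k * g := by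
    intro g hg
    have := map_zpow (MulAut.conj g) (u * v) k
    rw [MulAut.conj_apply, MulAut.conj_apply, hg, inv_zpow, hinv] at this
    exact mul_inv_eq_iff_eq_mul.1 this
  refine ⟨key u ?_, key v ?_⟩
  · rw [mul_inv_rev, hu', hv', ← mul_assoc, hu, one_mul]
  · rw [mul_inv_rev, hu', hv', mul_assoc (v) (u * v), mul_assoc u v, hv, mul_one]

namespace Model

variable {G : Type*} [Group G] {t : G} (M : Model G t)

/-- the centraliser of `c` -/
abbrev cU : Subgroup G := Subgroup.centralizer ({M.el 184} : Set G)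

theorem mem_cU {x : G} : x ∈ M.cU ↔ x * M.el 184 = M.el 184 * x :=
  Subgroup.mem_centralizer_singleton_iff

theorem el_mem_cU {i : Fin 192} (h : inD i = true) : M.el i ∈ M.cU :=
  M.mem_cU.2 (M.commute_iff.2 h)

theorem el_of_cU {x : G} (hx : x ∈ M.cU) (ht : x * t = t * x) :
    ∃ q : Fin 192, inD q = true ∧ M.el q = x := by
  obtain ⟨q, rfl⟩ := (M.mem_iff x).1 ht
  exact ⟨q, M.commute_iff.1 (M.mem_cU.1 hx), rfl⟩

theorem t_mem_cU : t ∈ M.cU := M.mem_cU.2 (M.commutes 184).symm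

theorem el184_sq : M.el 184 * M.el 184 = 1 := M.sq_one_iff.2 (by decide +kernel)

theorem el184_ne_one : M.el 184 ≠ 1 := fun h => absurd (M.eq_one_iff.1 h) (by decide)

/-- the subgroup of the centraliser of `c` commuting with `t` -/
def dSub [Finite G] : Subgroup G := M.sub inD inD_facts.2.1 inD_closed

theorem dSub_le [Finite G] : M.dSub ≤ M.cU := by
  rintro g ⟨i, hi, rfl⟩
  exact M.el_mem_cU hi

theorem mem_dSub_iff [Finite G] {x : G} : x ∈ M.dSub ↔ x ∈ M.cU ∧ x * t = t * x :=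
  ⟨fun h => ⟨M.dSub_le h, M.sub_le x h⟩, fun h => by
    obtain ⟨q, hq, rfl⟩ := M.el_of_cU h.1 h.2
    exact ⟨q, hq, rfl⟩⟩

theorem card_dSub [Finite G] : Nat.card M.dSub = 16 :=
  (M.card_sub _ _ _).trans inD_facts.1

theorem dSub_maximal [Finite G] {P : Subgroup G} (hP : IsPGroup 2 P) (hle : M.dSub ≤ P)
    (hPU : P ≤ M.cU) : P = M.dSub := by
  haveI : Fact (Nat.Prime 2) := ⟨Nat.prime_two⟩
  refine eq_of_pgroup_normalizing hP hle fun n hn hnorm => ?_
  obtain ⟨s, hs, hs7⟩ := inD_root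
  have hst : M.el s * M.el s = t := ((M.sq_eq_iff (k := 7)).2 hs7).trans M.map_seven
  obtain ⟨q, hq, hqe⟩ := (hnorm (M.el s)).1 ⟨s, hs, rfl⟩
  have hnq : n * t * n⁻¹ = M.el q * M.el q := by
    rw [hqe, ← MulAut.conj_apply, ← MulAut.conj_apply, ← _root_.map_mul, hst]
  refine M.mem_dSub_iff.2 ⟨hPU hn, mul_inv_eq_iff_eq_mul.1 ?_⟩
  rcases inD_squares' q hq with h | h
  · exfalso
    rw [(M.sq_eq_iff (k := 0)).2 h, M.map_zero] at hnq
    exact M.ne_one (conj_eq_one_iff.1 hnq)
  · exact hnq.trans (((M.sq_eq_iff (k := 7)).2 h).trans M.map_seven)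

theorem exists_sylow_cU [Finite G] :
    ∃ P : Sylow 2 M.cU, (P : Subgroup M.cU) = M.dSub.subgroupOf M.cU := by
  haveI : Fact (Nat.Prime 2) := ⟨Nat.prime_two⟩
  have h2 : IsPGroup 2 (M.dSub.subgroupOf M.cU) :=
    (IsPGroup.of_card (n := 4) (M.card_dSub.trans (by norm_num)) : IsPGroup 2 M.dSub).of_equiv
      (Subgroup.subgroupOfEquivOfLe M.dSub_le).symm
  obtain ⟨P, hP⟩ := h2.exists_le_sylow
  refine ⟨P, le_antisymm ?_ hP⟩
  have := M.dSub_maximal (P := (P : Subgroup M.cU).map M.cU.subtype) (P.2.map _)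
    (fun x hx => ⟨⟨x, M.dSub_le hx⟩, hP (Subgroup.mem_subgroupOf.2 hx), rfl⟩)
    (Subgroup.map_subtype_le _)
  intro x hx
  rw [Subgroup.mem_subgroupOf, ← this]
  exact ⟨x, hx, rfl⟩

theorem not_square [Finite G] {s : G} (hs : s ∈ M.cU) : s * s ≠ M.el 184 := by
  intro h
  haveI : Fact (Nat.Prime 2) := ⟨Nat.prime_two⟩
  obtain ⟨P, hP⟩ := M.exists_sylow_cU
  have h4 : (⟨s, hs⟩ : M.cU) ^ (2 ^ 2) = 1 := by
    apply Subtype.ext
    simp only [SubgroupClass.coe_pow, OneMemClass.coe_one]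
    rw [show (2 : ℕ) ^ 2 = 2 * 2 from rfl, pow_mul, pow_two s, h, pow_two, M.el184_sq]
  have h2 : IsPGroup 2 (Subgroup.zpowers (⟨s, hs⟩ : M.cU)) := by
    obtain ⟨k, -, hk⟩ := (Nat.dvd_prime_pow Nat.prime_two).1 (orderOf_dvd_of_pow_eq_one h4)
    exact IsPGroup.of_card (n := k) (by rw [Nat.card_zpowers, hk])
  obtain ⟨Q, hQ⟩ := h2.exists_le_sylow
  obtain ⟨g, hg⟩ := MulAction.exists_smul_eq M.cU Q P
  have hm : g * ⟨s, hs⟩ * g⁻¹ ∈ M.dSub.subgroupOf M.cU := by
    rw [← hP, ← hg]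
    exact Subgroup.smul_mem_pointwise_smul _ (MulAut.conj g) _ (hQ (Subgroup.mem_zpowers _))
  obtain ⟨q, hq, hqe⟩ := Subgroup.mem_subgroupOf.1 hm
  have hqq : M.el q * M.el q = M.el 184 := by
    rw [hqe]
    show (g : G) * s * (g : G)⁻¹ * ((g : G) * s * (g : G)⁻¹) = _
    rw [← MulAut.conj_apply, ← _root_.map_mul, h, MulAut.conj_apply, M.mem_cU.1 g.2, mul_inv_cancel_right]
  have h184 := M.sq_eq_iff.1 hqq
  rcases inD_squares' q hq with h' | h' <;> rw [h'] at h184 <;> simp at h184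

/-- `c` as an element of its centraliser -/
def cC : M.cU := ⟨M.el 184, M.mem_cU.2 rfl⟩

/-- the subgroup generated by `c` in its centraliser -/
abbrev cZ : Subgroup M.cU := Subgroup.zpowers M.cC

instance cZ_normal : M.cZ.Normal := by
  refine ⟨fun n hn g => ?_⟩
  obtain ⟨k, rfl⟩ := Subgroup.mem_zpowers_iff.1 hn
  have h : Commute g M.cC := Subtype.ext (M.mem_cU.1 g.2)
  rw [(h.zpow_right k).eq, mul_inv_cancel_right]
  exact zpow_mem (Subgroup.mem_zpowers _) k

/-- the quotient of the centraliser of `c` by `⟨c⟩` -/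
abbrev cX : Type _ := M.cU ⧸ M.cZ

/-- the natural map -/
abbrev pr : M.cU →* M.cX := QuotientGroup.mk' M.cZ

theorem pr_eq_iff {x y : M.cU} : M.pr x = M.pr y ↔ (y : G) = x ∨ (y : G) = x * M.el 184 := by
  rw [QuotientGroup.mk'_apply, QuotientGroup.mk'_apply, QuotientGroup.eq]
  constructor
  · intro h
    rcases mem_zpowers_of_sq (Subtype.ext M.el184_sq) h with h | h
    · exact Or.inl (congrArg Subtype.val (inv_mul_eq_one.1 h).symm)
    · exact Or.inr (congrArg Subtype.val (inv_mul_eq_iff_eq_mul.1 h))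
  · rintro (h | h)
    · rw [Subtype.ext h, inv_mul_cancel]
      exact one_mem _
    · have : y = x * M.cC := Subtype.ext h
      rw [this, inv_mul_cancel_left]
      exact Subgroup.mem_zpowers _

theorem card_cU [Finite G] : Nat.card M.cU = 2 * Nat.card M.cX := by
  rw [Subgroup.card_eq_card_quotient_mul_card_subgroup M.cZ, Nat.card_zpowers, mul_comm]
  congr 1
  exact orderOf_eq_prime (by rw [pow_two]; exact Subtype.ext M.el184_sq)
    (fun h => M.el184_ne_one (congrArg Subtype.val h))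

/-- the image of `t` -/
def tX : M.cX := M.pr ⟨t, M.t_mem_cU⟩

theorem pr_commute {x : M.cU} {w : G} (hw : w ∈ M.cU) (hnc : ¬ IsConj w (w * M.el 184))
    (h : M.pr x * M.pr ⟨w, hw⟩ = M.pr ⟨w, hw⟩ * M.pr x) : (x : G) * w = w * x := by
  have h' : M.pr ⟨w, hw⟩ = M.pr (x * ⟨w, hw⟩ * x⁻¹) := by
    rw [_root_.map_mul, _root_.map_mul, map_inv, h, mul_inv_cancel_right]
  rcases M.pr_eq_iff.1 h' with e | e
  · exact mul_inv_eq_iff_eq_mul.1 e
  · exact absurd (isConj_iff.2 ⟨(x : G), e⟩ : IsConj w (w * M.el 184)) hnc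

theorem el7_184 : t * M.el 184 = M.el 191 := by
  have h : fmul 7 184 = 191 := by decide +kernel
  have := M.map_mul 7 184
  rw [h, M.map_seven] at this
  exact this.symm

end Model

namespace Pattern

variable {G : Type*} [Group G] {t : G} {M : Model G t} {b : Bool}

theorem k2_191 : k2 b (191 : Fin 192) = true := by cases b <;> decide +kernel

theorem not_conj_tc (hp : Pattern M b) : ¬ IsConj t (t * M.el 184) := by
  rw [M.el7_184]
  exact fun h => hp.not_conj (h.trans ((hp.second 191).2 k2_191).symm)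

theorem tX_commute (hp : Pattern M b) {x : M.cU} (h : M.pr x * M.tX = M.tX * M.pr x) :
    (x : G) * t = t * x :=
  M.pr_commute M.t_mem_cU hp.not_conj_tc h

theorem centralizer_tX [Finite G] (hp : Pattern M b) :
    Nonempty (↥(Subgroup.centralizer ({M.tX} : Set M.cX)) ≃* DihedralGroup 4) := by
  classical
  let idx : M.dSub → Fin 192 := fun d => d.2.choose
  have hidx : ∀ d : M.dSub, inD (idx d) = true ∧ M.el (idx d) = (d : G) := fun d => d.2.choose_spec
  let f : M.dSub →* DihedralGroup 4 := MonoidHom.mk' (fun d => dec (dihCode (idx d))) fun d e => by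
    have hk : idx (d * e) = fmul (idx d) (idx e) := M.inj (by
      rw [M.map_mul, (hidx _).2, (hidx d).2, (hidx e).2]; rfl)
    have hh := all192_two (P := fun i j =>
      !inD i || !inD j || dihCode (mulN i j) == dihMul (dihCode i) (dihCode j)) dih_hom
      (idx d).isLt (idx e).isLt
    rw [(hidx d).1, (hidx e).1] at hh
    simp only [Bool.not_true, Bool.false_or, beq_iff_eq] at hh
    simp only [hk, fmul_val, hh]
    exact dec_mul ⟨_, dihCode_lt (idx d)⟩ ⟨_, dihCode_lt (idx e)⟩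
  let g : M.dSub →* ↥(Subgroup.centralizer ({M.tX} : Set M.cX)) :=
    (M.pr.comp (Subgroup.inclusion M.dSub_le)).codRestrict _ fun d => by
      rw [Subgroup.mem_centralizer_singleton_iff]
      show M.pr _ * M.pr _ = M.pr _ * M.pr _
      rw [← _root_.map_mul, ← _root_.map_mul]
      exact congrArg M.pr (Subtype.ext (M.sub_le _ d.2))
  have hf : Function.Surjective f := by
    intro z
    obtain ⟨x, rfl⟩ := dec_onto z
    have h := List.all_eq_true.1 dih_onto x.val (List.mem_range.2 x.isLt)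
    simp only [List.any_eq_true, List.mem_range, Bool.and_eq_true, beq_iff_eq] at h
    obtain ⟨i, hi, hiD, hix⟩ := h
    refine ⟨⟨M.el ⟨i, hi⟩, ⟨i, hi⟩, hiD, rfl⟩, ?_⟩
    show dec (dihCode (idx _)) = _
    rw [M.inj ((hidx _).2 : M.el (idx ⟨M.el ⟨i, hi⟩, ⟨i, hi⟩, hiD, rfl⟩) = M.el ⟨i, hi⟩)]
    exact congrArg dec hix
  have hg : Function.Surjective g := by
    rintro ⟨y, hy⟩
    obtain ⟨x, rfl⟩ := QuotientGroup.mk'_surjective M.cZ y
    have hc := hp.tX_commute (Subgroup.mem_centralizer_singleton_iff.1 hy)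
    exact ⟨⟨x, M.mem_dSub_iff.2 ⟨x.2, hc⟩⟩, Subtype.ext rfl⟩
  have hker : g.ker = f.ker := by
    ext d
    rw [MonoidHom.mem_ker, MonoidHom.mem_ker, Subtype.ext_iff]
    show M.pr (Subgroup.inclusion M.dSub_le d) = 1 ↔ dec (dihCode (idx d)) = 1
    have hk := all192_spec dih_ker (idx d).isLt
    rw [(hidx d).1] at hk
    simp only [Bool.not_true, Bool.false_or, beq_iff_eq] at hk
    rw [dec_eq_one ⟨_, dihCode_lt (idx d)⟩, ← map_one M.pr, eq_comm, M.pr_eq_iff]
    show (d : G) = 1 ∨ (d : G) = 1 * M.el 184 ↔ dihCode (idx d) = 0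
    rw [one_mul, ← (hidx d).2, M.eq_one_iff, M.inj.eq_iff]
    constructor
    · rintro (e | e) <;> (rw [e] at hk ⊢; exact eq_of_beq (hk.trans rfl))
    · intro e
      have h : ((idx d).val == 0 || (idx d).val == 184) = true := by rw [← hk, e]; rfl
      exact (Bool.or_eq_true _ _ ▸ h).imp (fun h => Fin.ext (eq_of_beq h))
        (fun h => Fin.ext (eq_of_beq h))
  exact ⟨(QuotientGroup.quotientKerEquivOfSurjective g hg).symm.trans
    ((QuotientGroup.quotientMulEquivOfEq hker).trans (QuotientGroup.quotientKerEquivOfSurjective f hf))⟩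

theorem tX_order (M : Model G t) : orderOf M.tX = 2 := by
  refine orderOf_eq_prime (by
    rw [pow_two]
    show M.pr _ * M.pr _ = 1
    rw [← _root_.map_mul, ← map_one M.pr]
    exact congrArg M.pr (Subtype.ext M.mul_self)) fun h => ?_
  rcases M.pr_eq_iff.1 (h.trans (map_one M.pr).symm) with e | e
  · exact M.ne_one e.symm
  · exact absurd (M.eq_one_iff.1 ((M.el7_184).symm.trans e.symm)) (by decide)

end Pattern

end CfsgLib.MTwelveCent
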