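import Cfsg.Agent.Lib.MTwelveCent.Table
import Mathlib.Data.Fintype.Prod
import Mathlib.Data.Fintype.Card

/-!
Finite facts about the table on `192` symbols, each checked by evaluation.
-/
set_option autoImplicit false
set_option maxRecDepth 100000

namespace CfsgLib.MTwelveCent

/-- evaluate a predicate on all symbols -/
def all192 (P : ℕ → Bool) : Bool := (List.range 192).all P

theorem all192_spec {P : ℕ → Bool} (h : all192 P = true) {i : ℕ} (hi : i < 192) : P i = true :=
  List.all_eq_true.1 h i (List.mem_range.2 hi)

theorem all192_two {P : ℕ → ℕ → Bool} (h : (all192 fun i => all192 (P i)) = true) {i j : ℕ}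
    (hi : i < 192) (hj : j < 192) : P i j = true :=
  all192_spec (all192_spec (P := fun i => all192 (P i)) h hi) hj

theorem lt_ok : (all192 fun i => all192 fun j => decide (mulN i j < 192)) = true := by decide +kernel

theorem mulN_lt {i j : ℕ} (hi : i < 192) (hj : j < 192) : mulN i j < 192 :=
  of_decide_eq_true (all192_two (P := fun i j => decide (mulN i j < 192)) lt_ok hi hj)

theorem assoc_ok : (all192 fun i => all192 fun j =>
    mulN (mulN 8 i) j == mulN 8 (mulN i j) && mulN (mulN 64 i) j == mulN 64 (mulN i j)) = true := by
  decide +kernel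

theorem typ_ok : (all192 fun i =>
    (mulN i i == 0) == decide (typ i < 5) && (typ i == 0) == (i == 0) && (typ i == 1) == (i == 7) &&
      decide (typ i < 6) && (typ i != 1 || cntN i == 192) &&
      (typ i != 2 || cntN i == 32) && (typ i != 3 || cntN i == 8) &&
      (typ i != 4 || cntN i == 16) && comN i 7) = true := by
  decide +kernel

theorem centre_ok : (all192 fun i =>
    i == 0 || i == 7 || (List.range 192).any (fun j => inS j && !comN i j)) = true := by
  decide +kernel

theorem inS_closed : (all192 fun i => all192 fun j => !inS i || !inS j || inS (mulN i j)) = true := by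
  decide +kernel

theorem inS_facts : (List.range 192).countP inS = 64 ∧ inS 0 = true ∧ inS 7 = true ∧ inS 1 = true ∧
    inS 9 = true ∧ inS 184 = true := by
  decide +kernel

theorem inQ_closed : (all192 fun i => all192 fun j => !inQ i || !inQ j || inQ (mulN i j)) = true := by
  decide +kernel

theorem inQ_facts : (all192 fun i => !inQ i || (inS i && typ i != 3)) = true ∧
    (List.range 192).countP inQ = 32 ∧ inQ 0 = true ∧ inQ 9 = false := by
  decide +kernel

theorem classes_ok : (all192 fun i =>
    (typ i != 2 || (List.range 192).any fun h => mulN h 1 == mulN i h) &&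
      (typ i != 3 || (List.range 192).any fun h => mulN h 9 == mulN i h) &&
      (typ i != 4 || (List.range 192).any fun h => mulN h 184 == mulN i h)) = true := by
  decide +kernel

theorem reps : typ 1 = 2 ∧ typ 9 = 3 ∧ typ 184 = 4 ∧ typ 6 = 2 ∧ typ 185 = 4 ∧ typ 190 = 4 ∧
    typ 191 = 4 ∧ typ 56 = 4 ∧ typ (mulN 56 184) = 4 ∧ mulN 7 184 = 191 ∧ mulN 1 184 = 185 ∧
    mulN 6 184 = 190 ∧ mulN 1 7 = 6 ∧ mulN 3 4 = 7 := by
  decide +kernel

theorem classC_ok : (all192 fun i => typ i != 4 ||
    ((List.range 192).any fun s => comN i s && mulN s s == 7) &&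
      all192 fun s => !comN i s || mulN s s == 0 || mulN s s == 7) = true := by
  decide +kernel

theorem fourE_ok : (all192 fun j => !comN 9 j ||
    (List.elem j [0, 3, 4, 7, 9, 10, 13, 14])) = true ∧
    typ 3 = 2 ∧ typ 4 = 2 ∧ typ 9 = 3 ∧ typ 10 = 3 ∧ typ 13 = 3 ∧ typ 14 = 3 ∧
    comN 9 3 = true ∧ comN 9 4 = true := by
  decide +kernel

theorem inD_facts : (List.range 192).countP inD = 16 ∧ inD 0 = true ∧ inD 7 = true ∧ inD 1 = true ∧
    inD 6 = true ∧ inD 184 = true ∧ inD 56 = true ∧
    (List.range 192).countP (fun j => inD j && comN 1 j) = 8 ∧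
    (List.range 192).countP (fun j => inD j && comN 6 j) = 8 := by
  decide +kernel

theorem inD_squares : (all192 fun i => !inD i || mulN i i == 0 || mulN i i == 7) = true := by
  decide +kernel

theorem inD_sub : (all192 fun i => !inD i || inS i) = true := by
  decide +kernel

/-- the product in the dihedral group, on codes -/
def dihMul (x y : ℕ) : ℕ :=
  if x < 4 then (if y < 4 then (x + y) % 4 else 4 + (y + 4 - x) % 4)
  else (if y < 4 then 4 + (x + y) % 4 else (y + 4 - x) % 4)

theorem dih_hom : (all192 fun i => all192 fun j =>
    !inD i || !inD j || dihCode (mulN i j) == dihMul (dihCode i) (dihCode j)) = true := by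
  decide +kernel

theorem dih_ker : (all192 fun i => !inD i || (dihCode i == 0) == (i == 0 || i == 184)) = true := by
  decide +kernel

theorem dih_onto : ((List.range 8).all fun x =>
    (List.range 192).any fun i => inD i && dihCode i == x) = true := by
  decide +kernel

theorem fSmall_D : (all192 fun i => !(inD i && k1 false i) || List.elem i [7, 1, 6]) = true ∧
    dihCode 7 ≠ dihCode 56 ∧ dihCode 56 ≠ 0 := by
  decide +kernel

theorem inE_closed : (all192 fun i => all192 fun j =>
    !inE i || !inE j || (inE (mulN i j) && comN i j)) = true := by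
  decide +kernel

theorem inE_facts : (List.range 192).countP inE = 8 ∧
    (all192 fun i => !inE i || (inS i && (mulN (mulN (mulN i 184) i) 184 == 0 ||
      mulN (mulN (mulN i 184) i) 184 == 7))) = true ∧
    inE 2 = true ∧ mulN (mulN (mulN 2 184) 2) 184 = 7 := by
  decide +kernel

theorem powers_ok : (all192 fun p =>
    (List.range 9).any fun k => powN p k == mulN (powN p 8) p) = true := by
  decide +kernel

theorem countT_z : (Finset.univ.filter fun p : Fin 192 × Fin 192 =>
    (k1 true p.1.val && k2 true p.2.val && hit (mulN p.1 p.2) 7) = true).card = 240 := by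
  decide +kernel

theorem countF_z : (Finset.univ.filter fun p : Fin 192 × Fin 192 =>
    (k1 false p.1.val && k2 false p.2.val && hit (mulN p.1 p.2) 7) = true).card = 48 := by
  decide +kernel

theorem countF_c : (Finset.univ.filter fun p : Fin 192 × Fin 192 =>
    (inD p.1.val && inD p.2.val && k1 false p.1.val && k2 false p.2.val &&
      hit (mulN p.1 p.2) 184) = true).card = 3 := by
  decide +kernel

theorem countT_zz : 64 ≤ (Finset.univ.filter fun p : Fin 192 × Fin 192 =>
    (k1 true p.1.val && k1 true p.2.val && hit (mulN p.1 p.2) 7) = true).card := by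
  decide +kernel

end CfsgLib.MTwelveCent
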