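import Cfsg.Agent.Lib.MTwelveCent.Sub
import Cfsg.Agent.S0215
import Cfsg.Agent.S0111
import Mathlib.GroupTheory.Subgroup.Simple

/-!
Fusion of involutions in a simple group with the given involution centraliser: there are exactly two
classes, and the class of `t` meets the centraliser in the centre and one or two further kinds.
-/
set_option autoImplicit false
set_option maxRecDepth 100000
set_option maxHeartbeats 400000

namespace CfsgLib.MTwelveCent

attribute [local irreducible] mulN typ cntN inS inQ all192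

theorem isMulCommutative_or_center_bot {G : Type*} [Group G] [IsSimpleGroup G] :
    IsMulCommutative G ∨ Subgroup.center G = ⊥ := by
  rcases (inferInstance : (Subgroup.center G).Normal).eq_bot_or_eq_top with h | h
  · exact Or.inr h
  · refine Or.inl ⟨⟨fun a b => ?_⟩⟩
    exact (Subgroup.mem_center_iff.1 (by rw [h]; trivial : b ∈ Subgroup.center G) a)

/-- the number of elements commuting with two given ones is invariant under conjugation -/
theorem card_commuting_conj {G : Type*} [Group G] (g a b : G) :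
    Nat.card {x : G // x * a = a * x ∧ x * b = b * x} =
      Nat.card {x : G // x * (g * a * g⁻¹) = g * a * g⁻¹ * x ∧ x * (g * b * g⁻¹) = g * b * g⁻¹ * x} :=
  Nat.card_congr (Equiv.subtypeEquiv (MulAut.conj g).toEquiv fun x => by
    have key : ∀ y, x * y = y * x ↔ MulAut.conj g x * MulAut.conj g y = MulAut.conj g y * MulAut.conj g x :=
      fun y => by rw [← map_mul, ← map_mul, (MulAut.conj g).injective.eq_iff]
    show _ ↔ MulAut.conj g x * MulAut.conj g a = MulAut.conj g a * MulAut.conj g x ∧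
      MulAut.conj g x * MulAut.conj g b = MulAut.conj g b * MulAut.conj g x
    rw [key a, key b])

theorem conj_commute {G : Type*} [Group G] {a b : G} (h : a * b = b * a) (g : G) :
    g * a * g⁻¹ * (g * b * g⁻¹) = g * b * g⁻¹ * (g * a * g⁻¹) :=
  (show Commute a b from h).map (MulAut.conj g)

theorem conj_sq_one {G : Type*} [Group G] {a : G} (h : a * a = 1) (g : G) :
    g * a * g⁻¹ * (g * a * g⁻¹) = 1 := by
  have : MulAut.conj g a * MulAut.conj g a = 1 := by rw [← map_mul, h, map_one]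
  exact this

theorem comN_symm (i j : ℕ) : comN i j = comN j i := Bool.beq_comm

theorem fourE_list : ∀ k : Fin 192, comN 9 k.val = true →
    k = 0 ∨ k = 3 ∨ k = 4 ∨ k = 7 ∨ k = 9 ∨ k = 10 ∨ k = 13 ∨ k = 14 := by
  decide +kernel

namespace Model

variable {G : Type*} [Group G] {t : G} (M : Model G t)

theorem el_facts (i : Fin 192) :
    (typ i = 0 ↔ i = 0) ∧ (typ i = 1 ↔ i = 7) ∧ typ i < 6 ∧ (typ i = 1 → cntN i = 192) ∧
      (typ i = 2 → cntN i = 32) ∧ (typ i = 3 → cntN i = 8) ∧ (typ i = 4 → cntN i = 16) := by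
  have h := all192_spec typ_ok i.isLt
  simp only [Bool.and_eq_true, beq_iff_eq, decide_eq_true_eq, Bool.or_eq_true, bne_iff_ne] at h
  obtain ⟨⟨⟨⟨⟨⟨⟨⟨-, h0⟩, h1⟩, h6⟩, c1⟩, c2⟩, c3⟩, c4⟩, -⟩ := h
  refine ⟨?_, ?_, h6, fun e => c1.resolve_left (by simp [e]), fun e => c2.resolve_left (by simp [e]),
    fun e => c3.resolve_left (by simp [e]), fun e => c4.resolve_left (by simp [e])⟩
  · rw [Fin.ext_iff]
    constructor
    · intro e; simpa [e] using h0
    · intro e; simpa [show i.val = 0 from e] using h0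
  · rw [Fin.ext_iff]
    constructor
    · intro e; simpa [e] using h1
    · intro e; simpa [show i.val = 7 from e] using h1

theorem typ_of_card {i j : Fin 192} (hi : typ i = 2 ∨ typ i = 3 ∨ typ i = 4)
    (hj : typ j = 2 ∨ typ j = 3 ∨ typ j = 4) (h : cntN i = cntN j) : typ i = typ j := by
  obtain ⟨-, -, -, -, a2, a3, a4⟩ := el_facts i
  obtain ⟨-, -, -, -, b2, b3, b4⟩ := el_facts j
  rcases hi with e | e | e <;> rcases hj with f | f | f <;>
    simp_all

theorem el_ne_t {i : Fin 192} (h : typ i ≠ 1) : M.el i ≠ t := fun e =>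
  h ((el_facts i).2.1.2 (M.inj (e.trans M.map_seven.symm)))

/-- if `t` is conjugate to an involution of a kind other than the centre, it is conjugate to one of
the same kind in the opposite direction -/
theorem conj_back {g : G} {i : Fin 192} (hi : typ i = 2 ∨ typ i = 3 ∨ typ i = 4)
    (hg : g * t * g⁻¹ = M.el i) :
    ∃ j : Fin 192, g⁻¹ * t * g = M.el j ∧ typ j = typ i := by
  have hback : g⁻¹ * M.el i * g = t := by rw [← hg]; simp [mul_assoc]
  have hcom : (g⁻¹ * t * g) * t = t * (g⁻¹ * t * g) := by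
    have h := conj_commute (M.commutes i).symm g⁻¹
    rwa [inv_inv, hback] at h
  obtain ⟨j, hj⟩ := (M.mem_iff _).1 hcom
  refine ⟨j, hj.symm, ?_⟩
  have hsq : M.el j * M.el j = 1 := by
    rw [hj]; simpa using conj_sq_one M.mul_self g⁻¹
  have hj1 : M.el j ≠ 1 := by
    rw [hj]
    intro h
    exact M.ne_one (by simpa [mul_assoc] using congrArg (fun x => g * x * g⁻¹) h)
  have hjt : M.el j ≠ t := by
    intro h
    rw [hj] at h
    have h1 : g * t * g⁻¹ = t := by
      nth_rewrite 1 [← h]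
      simp [mul_assoc]
    exact M.el_ne_t (i := i) (by omega) (hg.symm.trans h1)
  refine typ_of_card (M.typ_of_sq hsq hj1 hjt) hi ?_
  rw [← M.card_centralizer j, ← M.card_centralizer i, hj, card_commuting_conj g t (g⁻¹ * t * g)]
  rw [show g * (g⁻¹ * t * g) * g⁻¹ = t by simp [mul_assoc], hg]
  exact Nat.card_congr (Equiv.subtypeEquivRight fun x => and_comm)

theorem not_conj_C {i : Fin 192} (hi : typ i = 4) : ¬ IsConj t (M.el i) := by
  intro h
  obtain ⟨g, hg⟩ := isConj_iff.1 h
  obtain ⟨j, hj, hj4⟩ := M.conj_back (by omega) hg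
  rw [hi] at hj4
  have hC := all192_spec classC_ok i.isLt
  simp only [hi, bne_self_eq_false, Bool.false_or, Bool.and_eq_true, List.any_eq_true,
    List.mem_range, beq_iff_eq] at hC
  obtain ⟨⟨s, hs, hsc, hs7⟩, -⟩ := hC
  have e1 : M.el i * M.el ⟨s, hs⟩ = M.el ⟨s, hs⟩ * M.el i := M.commute_iff.2 hsc
  have e2 : M.el ⟨s, hs⟩ * M.el ⟨s, hs⟩ = t :=
    ((M.sq_eq_iff (k := 7)).2 hs7).trans M.map_seven
  set r := g⁻¹ * M.el ⟨s, hs⟩ * g with hr
  have hback : g⁻¹ * M.el i * g = t := by rw [← hg]; simp [mul_assoc]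
  have hrt : r * t = t * r := by
    have h := conj_commute e1.symm g⁻¹
    rwa [inv_inv, hback, ← hr] at h
  obtain ⟨q, hq⟩ := (M.mem_iff r).1 hrt
  have hrr : r * r = M.el j := by
    rw [← hj, ← e2, hr]
    simp [mul_assoc]
  have hrj : M.el j * M.el q = M.el q * M.el j := by rw [hq, ← hrr, mul_assoc]
  have hC' := all192_spec classC_ok j.isLt
  simp only [hj4, bne_self_eq_false, Bool.false_or, Bool.and_eq_true] at hC'
  have := all192_spec hC'.2 q.isLt
  simp only [Bool.or_eq_true, Bool.not_eq_true', beq_iff_eq] at this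
  rw [M.commute_iff] at hrj
  rcases this with (h0 | h0) | h0
  · rw [hrj] at h0; exact Bool.noConfusion h0
  · rw [← hq] at hrr
    have hm : mulN q q = j.val := M.sq_eq_iff.1 hrr
    have hj0 : j = 0 := Fin.ext (hm.symm.trans h0)
    have := (el_facts j).1.2 hj0
    omega
  · rw [← hq] at hrr
    have hm : mulN q q = j.val := M.sq_eq_iff.1 hrr
    have hj0 : j = 7 := Fin.ext (hm.symm.trans h0)
    have := (el_facts j).2.1.2 hj0
    omega

/-- the representative of a kind -/
def kindRep (k : ℕ) : Fin 192 := if k = 2 then 1 else if k = 3 then 9 else 184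

theorem isConj_rep {i : Fin 192} (hi : typ i = 2 ∨ typ i = 3 ∨ typ i = 4) :
    IsConj (M.el (kindRep (typ i))) (M.el i) := by
  have h := all192_spec classes_ok i.isLt
  simp only [Bool.and_eq_true, Bool.or_eq_true, bne_iff_ne, List.any_eq_true, List.mem_range,
    beq_iff_eq] at h
  have key : ∀ (r : Fin 192) (x : ℕ) (hx : x < 192), mulN x r = mulN i x →
      IsConj (M.el r) (M.el i) := fun r x hx e => by
    refine isConj_iff.2 ⟨M.el ⟨x, hx⟩, mul_inv_eq_iff_eq_mul.2 ?_⟩
    rw [← M.map_mul, ← M.map_mul, M.el_eq_iff]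
    exact e
  rcases hi with e | e | e
  · obtain ⟨x, hx, hx'⟩ := h.1.1.resolve_left (by simp [e])
    rw [e]; exact key 1 x hx hx'
  · obtain ⟨x, hx, hx'⟩ := h.1.2.resolve_left (by simp [e])
    rw [e]; exact key 9 x hx hx'
  · obtain ⟨x, hx, hx'⟩ := h.2.resolve_left (by simp [e])
    rw [e]; exact key 184 x hx hx'

theorem isConj_same {i j : Fin 192} (hi : typ i = 2 ∨ typ i = 3 ∨ typ i = 4) (h : typ i = typ j) :
    IsConj (M.el i) (M.el j) :=
  (M.isConj_rep hi).symm.trans (h ▸ M.isConj_rep (h ▸ hi))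

variable [Finite G] [IsSimpleGroup G]

include M in
theorem centre_trivial (hG : ¬ IsMulCommutative G) : t ∉ Subgroup.center G := by
  intro h
  rcases isMulCommutative_or_center_bot (G := G) with h' | h'
  · exact hG h'
  · rw [h', Subgroup.mem_bot] at h
    exact M.ne_one h

theorem conj_A_or_B (hG : ¬ IsMulCommutative G) :
    IsConj t (M.el 1) ∨ IsConj t (M.el 9) := by
  by_contra hcon
  push Not at hcon
  obtain ⟨P, hP⟩ := M.exists_sylow
  have htP : t ∈ P := by
    rw [← SetLike.mem_coe, ← Sylow.coe_coe, SetLike.mem_coe, hP]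
    exact ⟨7, inS_facts.2.2.1, M.map_seven⟩
  obtain ⟨N, hN, hodd, hcomm⟩ := Cfsg.Agent.S0215.result P t M.order_two htP fun g hg => by
    rw [← SetLike.mem_coe, ← Sylow.coe_coe, SetLike.mem_coe, hP] at hg
    obtain ⟨i, -, hi⟩ := hg
    by_contra hne
    have hsq : M.el i * M.el i = 1 := by rw [hi]; exact conj_sq_one M.mul_self g
    have h1 : M.el i ≠ 1 := fun h => M.ne_one (conj_eq_one_iff.1 (hi.symm.trans h))
    have hk := M.typ_of_sq hsq h1 (fun h => hne (hi.symm.trans h))
    have hci : IsConj t (M.el i) := isConj_iff.2 ⟨g, hi.symm⟩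
    have hrep := hci.trans (M.isConj_rep hk).symm
    rcases hk with e | e | e
    · rw [e] at hrep; exact hcon.1 hrep
    · rw [e] at hrep; exact hcon.2 hrep
    · exact M.not_conj_C e hci
  rcases hN.eq_bot_or_eq_top with rfl | rfl
  · refine M.centre_trivial hG (Subgroup.mem_center_iff.2 fun g => ?_)
    have h := Subgroup.mem_bot.1 (hcomm g)
    rw [mul_inv_eq_one, mul_inv_eq_iff_eq_mul] at h
    exact h.symm
  · rw [Subgroup.card_top] at hodd
    have h2 : 2 ∣ Nat.card G := M.order_two ▸ orderOf_dvd_natCard t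
    exact hodd.not_two_dvd_nat h2

theorem conj_A (hG : ¬ IsMulCommutative G) : IsConj t (M.el 1) := by
  by_contra hA
  obtain hb := (M.conj_A_or_B hG).resolve_left hA
  obtain ⟨g, hg⟩ := isConj_iff.1 hb
  obtain ⟨j, hj, hj3⟩ := M.conj_back (i := 9) (Or.inr (Or.inl reps.2.1)) hg
  have hj3' : typ j = 3 := hj3.trans reps.2.1
  -- `n` interchanges `t` and `b`
  obtain ⟨q, hq⟩ : ∃ q : Fin 192, M.el q * M.el j * (M.el q)⁻¹ = M.el 9 := by
    have h := all192_spec classes_ok j.isLt
    simp only [Bool.and_eq_true, Bool.or_eq_true, bne_iff_ne, List.any_eq_true, List.mem_range,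
      beq_iff_eq] at h
    obtain ⟨y, hy, hy'⟩ := h.1.2.resolve_left (by simp [hj3'])
    refine ⟨finv ⟨y, hy⟩, ?_⟩
    rw [el_finv, inv_inv, mul_assoc, inv_mul_eq_iff_eq_mul, ← M.map_mul, ← M.map_mul, M.el_eq_iff]
    exact hy'.symm
  set n := g * (M.el q)⁻¹ with hn
  have hkt : (M.el q)⁻¹ * t * M.el q = t := by
    rw [mul_assoc, ← M.commutes q, inv_mul_cancel_left]
  have hn1 : n * t * n⁻¹ = M.el 9 := by
    rw [← hg, hn]
    calc g * (M.el q)⁻¹ * t * (g * (M.el q)⁻¹)⁻¹ = g * ((M.el q)⁻¹ * t * M.el q) * g⁻¹ := by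
          simp [mul_assoc]
      _ = g * t * g⁻¹ := by rw [hkt]
  have hn2 : n * M.el 9 * n⁻¹ = t := by
    rw [← hq, ← hj, hn]
    simp [mul_assoc]
  have hfix : ∀ i : Fin 192, typ i = 2 → comN 9 i = true →
      n * M.el i * n⁻¹ = M.el 3 ∨ n * M.el i * n⁻¹ = M.el 4 := by
    intro i hi hc
    have e1 : (n * M.el i * n⁻¹) * t = t * (n * M.el i * n⁻¹) := by
      have h := conj_commute (M.commute_iff.2 hc : M.el 9 * M.el i = M.el i * M.el 9).symm n
      rwa [hn2] at h
    have e2 : (n * M.el i * n⁻¹) * M.el 9 = M.el 9 * (n * M.el i * n⁻¹) := by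
      have h := conj_commute (M.commutes i) n
      rwa [hn1] at h
    obtain ⟨k, hk⟩ := (M.mem_iff _).1 e1
    rw [← hk, M.commute_iff] at e2
    have e2' : comN 9 k.val = true := by
      rw [comN_symm]; exact e2
    have hmem := fourE_list k e2'
    have hnc : ¬ IsConj t (M.el k) := by
      rw [hk]
      intro h
      refine hA ((h.trans (IsConj.symm (isConj_iff.2 ⟨n, rfl⟩))).trans
        (M.isConj_same (Or.inl hi) (hi.trans reps.1.symm)))
    have hk1 : M.el k ≠ 1 := by
      rw [hk]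
      intro h
      have h0 := (el_facts i).1.2 (M.eq_one_iff.1 (conj_eq_one_iff.1 h))
      omega
    have h3 : ∀ l : Fin 192, typ l = 3 → IsConj t (M.el l) := fun l hl =>
      hb.trans (M.isConj_same (Or.inr (Or.inl reps.2.1)) (reps.2.1.trans hl.symm))
    rcases hmem with h | h | h | h | h | h | h | h
    · exact absurd (M.eq_one_iff.2 h) hk1
    · exact Or.inl (by rw [← hk, h])
    · exact Or.inr (by rw [← hk, h])
    · exact absurd (by rw [h, M.map_seven]) hnc
    all_goals exact absurd (h3 k (by rw [h]; decide +kernel)) hnc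
  have h34 : M.el 3 * M.el 4 = t := (M.map_mul 3 4).symm.trans
    ((congrArg M.el (by decide +kernel : fmul 3 4 = 7)).trans M.map_seven)
  have h43 : M.el 4 * M.el 3 = t := (M.map_mul 4 3).symm.trans
    ((congrArg M.el (by decide +kernel : fmul 4 3 = 7)).trans M.map_seven)
  obtain ⟨-, t3, t4, -, -, -, -, c3, c4⟩ := fourE_ok
  have hne : n * M.el 3 * n⁻¹ ≠ n * M.el 4 * n⁻¹ := fun h => by
    have := M.inj (mul_left_cancel (mul_right_cancel h))
    exact absurd this (by decide)
  have hfin : n * t * n⁻¹ = t := by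
    conv_lhs => rw [← h34]
    have : n * (M.el 3 * M.el 4) * n⁻¹ = (n * M.el 3 * n⁻¹) * (n * M.el 4 * n⁻¹) := by
      simp [mul_assoc]
    rw [this]
    rcases hfix 3 t3 c3 with a | a <;> rcases hfix 4 t4 c4 with b | b
    · exact absurd (a.trans b.symm) hne
    · rw [a, b, h34]
    · rw [a, b, h43]
    · exact absurd (a.trans b.symm) hne
  exact M.el_ne_t (i := 9) (by decide +kernel) (hn1.symm.trans hfin)

omit [IsSimpleGroup G] in
theorem conj_B_of (hA : IsConj t (M.el 1))
    (hN : ∀ N : Subgroup G, N.Normal → N.index = 2 → M.el 9 ∈ N) :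
    IsConj t (M.el 9) ∨ IsConj (M.el 184) (M.el 9) := by
  obtain ⟨P, hP⟩ := M.exists_sylow
  have hQ1 : M.halfSub ≤ (P : Subgroup G) := by
    rw [hP]
    rintro g ⟨i, hi, rfl⟩
    have := all192_spec inQ_facts.1 i.isLt
    simp [hi] at this
    exact ⟨i, this.1, rfl⟩
  have hQ2 : M.halfSub.relIndex (P : Subgroup G) = 2 := by
    have h := Subgroup.card_mul_index (M.halfSub.subgroupOf (P : Subgroup G))
    rw [Nat.card_congr (Subgroup.subgroupOfEquivOfLe hQ1).toEquiv] at h
    have hS : Nat.card (P : Subgroup G) = 64 := by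
      rw [hP]; exact (M.card_sub _ _ _).trans inS_facts.1
    have hH : Nat.card M.halfSub = 32 := (M.card_sub _ _ _).trans inQ_facts.2.1
    rw [hS, hH] at h
    rw [Subgroup.relIndex]
    omega
  have hu : orderOf (M.el 9) = 2 := orderOf_eq_prime
    (by rw [pow_two, M.sq_one_iff]; decide +kernel)
    (fun h => absurd (M.eq_one_iff.1 h) (by decide))
  have huP : M.el 9 ∈ (P : Subgroup G) := by
    rw [hP]
    exact ⟨9, inS_facts.2.2.2.2.1, rfl⟩
  have huQ : M.el 9 ∉ M.halfSub := fun h => by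
    have := M.el_mem_sub.1 h
    rw [show inQ ((9 : Fin 192) : ℕ) = false from inQ_facts.2.2.2] at this
    exact Bool.noConfusion this
  rcases Cfsg.Agent.S0111.result P M.halfSub hQ1 hQ2 (M.el 9) hu huP huQ with ⟨N, hNn, hi2, h9⟩ | ⟨g, hg⟩
  · exact absurd (hN N hNn hi2) h9
  · obtain ⟨i, hi, hie⟩ := hg
    have hci : IsConj (M.el 9) (M.el i) := isConj_iff.2 ⟨g, hie.symm⟩
    have hsq : M.el i * M.el i = 1 := by
      rw [hie]
      have : M.el 9 * M.el 9 = 1 := by rw [M.sq_one_iff]; decide +kernel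
      exact conj_sq_one this g
    have h1 : M.el i ≠ 1 := fun h => absurd
      (M.eq_one_iff.1 (conj_eq_one_iff.1 (hie.symm.trans h))) (by decide)
    by_cases ht : M.el i = t
    · exact Or.inl (ht ▸ hci).symm
    have hq := all192_spec inQ_facts.1 i.isLt
    simp [hi] at hq
    rcases M.typ_of_sq hsq h1 ht with e | e | e
    · exact Or.inl (hA.trans ((M.isConj_same (Or.inl reps.1)
        (reps.1.trans e.symm)).trans hci.symm))
    · exact absurd e hq.2
    · exact Or.inr ((M.isConj_same (Or.inr (Or.inr reps.2.2.1)) (reps.2.2.1.trans e.symm)).trans hci.symm)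

theorem conj_B (hG : ¬ IsMulCommutative G) :
    IsConj t (M.el 9) ∨ IsConj (M.el 184) (M.el 9) := by
  refine M.conj_B_of (M.conj_A hG) fun N hN hi2 => ?_
  rcases hN.eq_bot_or_eq_top with rfl | rfl
  · exfalso
    rw [Subgroup.index_bot] at hi2
    have h : Nat.card (Fin 192) ≤ Nat.card G := Nat.card_le_card_of_injective _ M.inj
    rw [Nat.card_fin, hi2] at h
    omega
  · trivial

end Model

/-- The fusion pattern: `b` says whether the third kind is in the class of `t`. -/
structure Pattern {G : Type*} [Group G] {t : G} (M : Model G t) (b : Bool) : Prop where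
  not_conj : ¬ IsConj t (M.el 184)
  first : ∀ i : Fin 192, IsConj t (M.el i) ↔ k1 b i = true
  second : ∀ i : Fin 192, IsConj (M.el 184) (M.el i) ↔ k2 b i = true
  cover : ∀ x : G, orderOf x = 2 → IsConj t x ∨ IsConj (M.el 184) x

theorem Model.exists_pattern_of {G : Type*} [Group G] [Finite G] {t : G} (M : Model G t)
    (hA : IsConj t (M.el 1)) (hB : IsConj t (M.el 9) ∨ IsConj (M.el 184) (M.el 9)) :
    ∃ b, Pattern M b := by
  classical
  have hnc : ¬ IsConj t (M.el 184) := M.not_conj_C reps.2.2.1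
  obtain ⟨b, hB1, hB2⟩ : ∃ b : Bool, (b = true → IsConj t (M.el 9)) ∧
      (b = false → IsConj (M.el 184) (M.el 9)) := by
    rcases hB with h | h
    · exact ⟨true, fun _ => h, fun e => Bool.noConfusion e⟩
    · exact ⟨false, fun e => Bool.noConfusion e, fun _ => h⟩
  have f1 : ∀ i : Fin 192, k1 b i = true → IsConj t (M.el i) := by
    intro i hi
    simp only [k1, Bool.or_eq_true, Bool.and_eq_true, beq_iff_eq] at hi
    rcases hi with (h | h) | ⟨hb, h⟩
    · rw [(Model.el_facts i).2.1.1 h, M.map_seven]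
    · exact hA.trans (M.isConj_same (Or.inl reps.1) (reps.1.trans h.symm))
    · exact (hB1 hb).trans (M.isConj_same (Or.inr (Or.inl reps.2.1)) (reps.2.1.trans h.symm))
  have f2 : ∀ i : Fin 192, k2 b i = true → IsConj (M.el 184) (M.el i) := by
    intro i hi
    simp only [k2, Bool.or_eq_true, Bool.and_eq_true, beq_iff_eq, Bool.not_eq_true'] at hi
    rcases hi with h | ⟨hb, h⟩
    · exact M.isConj_same (Or.inr (Or.inr reps.2.2.1)) (reps.2.2.1.trans h.symm)
    · exact (hB2 hb).trans (M.isConj_same (Or.inr (Or.inl reps.2.1)) (reps.2.1.trans h.symm))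
  have hk : ∀ i : Fin 192, typ i < 5 → typ i ≠ 0 → k1 b i = true ∨ k2 b i = true := by
    intro i h5 h0
    simp only [k1, k2]
    rcases (by omega : typ i = 1 ∨ typ i = 2 ∨ typ i = 3 ∨ typ i = 4) with e | e | e | e <;>
      cases b <;> simp [e]
  have hinv : ∀ (i : Fin 192) (x : G), orderOf x = 2 → IsConj x (M.el i) →
      typ i < 5 ∧ typ i ≠ 0 := by
    intro i x hx hc
    obtain ⟨g, hg⟩ := isConj_iff.1 hc
    have ho : orderOf (M.el i) = 2 := by
      rw [← hg, ← MulAut.conj_apply, MulEquiv.orderOf_eq, hx]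
    refine ⟨M.sq_one_iff.1 (by rw [← pow_two, ← ho, pow_orderOf_eq_one]), fun e => ?_⟩
    rw [(Model.el_facts i).1.1 e, M.map_zero, orderOf_one] at ho
    exact absurd ho (by norm_num)
  have h184 : orderOf (M.el 184) = 2 := orderOf_eq_prime
    (by rw [pow_two, M.sq_one_iff]; decide +kernel)
    (fun h => absurd (M.eq_one_iff.1 h) (by decide))
  refine ⟨b, hnc, fun i => ⟨fun h => ?_, f1 i⟩, fun i => ⟨fun h => ?_, f2 i⟩, fun x hx => ?_⟩
  · obtain ⟨h5, h0⟩ := hinv i t M.order_two h
    exact (hk i h5 h0).resolve_right fun h2 => hnc (h.trans (f2 i h2).symm)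
  · obtain ⟨h5, h0⟩ := hinv i _ h184 h
    exact (hk i h5 h0).resolve_left fun h1 => hnc ((f1 i h1).trans h.symm)
  · obtain ⟨P, hP⟩ := M.exists_sylow
    have h2 : IsPGroup 2 (Subgroup.zpowers x) :=
      IsPGroup.of_card (n := 1) (by rw [Nat.card_zpowers, hx, pow_one])
    obtain ⟨Q, hQ⟩ := h2.exists_le_sylow
    haveI : Fact (Nat.Prime 2) := ⟨Nat.prime_two⟩
    obtain ⟨g, hg⟩ := MulAction.exists_smul_eq G Q P
    have hm : g * x * g⁻¹ ∈ M.sylowSub := by
      rw [← hP, ← hg]
      exact Subgroup.smul_mem_pointwise_smul _ (MulAut.conj g) _ (hQ (Subgroup.mem_zpowers x))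
    obtain ⟨i, -, hi⟩ := hm
    have hc : IsConj x (M.el i) := isConj_iff.2 ⟨g, hi.symm⟩
    obtain ⟨h5, h0⟩ := hinv i x hx hc
    rcases hk i h5 h0 with h | h
    · exact Or.inl ((f1 i h).trans hc.symm)
    · exact Or.inr ((f2 i h).trans hc.symm)

theorem Model.exists_pattern {G : Type*} [Group G] [Finite G] [IsSimpleGroup G] {t : G}
    (M : Model G t) (hG : ¬ IsMulCommutative G) : ∃ b, Pattern M b :=
  M.exists_pattern_of (M.conj_A hG) (M.conj_B hG)

end CfsgLib.MTwelveCent
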