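import Cfsg.Agent.Lib.MTwelveCent.Count
import Cfsg.Agent.Lib.MTwelveCent.BridgeModel
import Cfsg.Agent.S0213

/-!
The order of a simple group with the involution centraliser of the Mathieu group of degree twelve.
-/
set_option autoImplicit false
set_option maxRecDepth 100000

namespace CfsgLib.MTwelveCent

attribute [local irreducible] mulN typ cntN inS inQ all192

theorem inE_closed' : (all192 fun i => all192 fun j => !inE i || !inE j || inE (mulN i j)) = true := by
  decide +kernel

theorem inE_cases : ∀ i : Fin 192, inE i.val = true → i = 0 ∨ k1 false i.val = true := by decide +kernel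

variable {G : Type*} [Group G] [Finite G] {t : G} {M : Model G t}

theorem Model.card_centralizer_t (M : Model G t) :
    Nat.card (Subgroup.centralizer ({t} : Set G)) = 192 := by
  have e : Fin 192 ≃ Subgroup.centralizer ({t} : Set G) := Equiv.ofBijective
    (fun j => ⟨M.el j, Subgroup.mem_centralizer_singleton_iff.2 (M.commutes j)⟩)
    ⟨fun a b h => M.inj (congrArg Subtype.val h), fun ⟨g, hg⟩ => by
      obtain ⟨j, hj⟩ := (M.mem_iff g).1 (Subgroup.mem_centralizer_singleton_iff.1 hg)
      exact ⟨j, Subtype.ext hj⟩⟩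
  rw [← Nat.card_congr e, Nat.card_eq_fintype_card, Fintype.card_fin]

theorem Pattern.card_eq {b : Bool} (hp : Pattern M b) :
    Nat.card G = Nat.card M.cU * Nat.card {p : G × G // IsConj t p.1 ∧ IsConj (M.el 184) p.2 ∧
        t ∈ Subgroup.zpowers (p.1 * p.2)} +
      192 * Nat.card {p : G × G // IsConj t p.1 ∧ IsConj (M.el 184) p.2 ∧
        M.el 184 ∈ Subgroup.zpowers (p.1 * p.2)} := by
  have h := Cfsg.Agent.S0213.result t (M.el 184) M.order_two
    (orderOf_eq_prime (by rw [pow_two, M.el184_sq]) M.el184_ne_one) hp.not_conj hp.cover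
  rwa [M.card_centralizer_t] at h

/-- in the small case the elementary subgroup of order eight is normal -/
theorem Pattern.inE_normal (hp : Pattern M false) (hG : Nat.card G = 1344) :
    ∃ E : Subgroup G, E.Normal ∧ ∀ g, g ∈ E ↔ ∃ i : Fin 192, inE i.val = true ∧ M.el i = g := by
  have hK := card_class_mul_card_centralizer t
  rw [M.card_centralizer_t, hG] at hK
  let f : {j : G // ∃ k : Fin 192, k1 false k.val = true ∧ M.el k = j} → {x : G // IsConj t x} := fun j =>
    ⟨j.1, by obtain ⟨k, hk, hj⟩ := j.2; rw [← hj]; exact (hp.first k).2 hk⟩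
  have hf : Function.Injective f := fun a c h => by
    have h' : (f a).1 = (f c).1 := congrArg Subtype.val h
    exact Subtype.ext h'
  have hbij : Function.Bijective f :=
    hf.bijective_of_nat_card_le (by rw [M.card_subset, k1_count]; omega)
  let E := M.sub inE (by decide +kernel) inE_closed'
  have hE : E.Normal := by
    refine ⟨?_⟩
    rintro e ⟨i, hi, rfl⟩ g
    rcases inE_cases i hi with rfl | hk
    · rw [M.map_zero, mul_one, mul_inv_cancel]; exact E.one_mem
    · obtain ⟨⟨j, k, hk', rfl⟩, hj⟩ := hbij.2 ⟨g * M.el i * g⁻¹,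
        ((hp.first i).2 hk).trans (isConj_iff.2 ⟨g, rfl⟩)⟩
      have h : M.el k = g * M.el i * g⁻¹ := congrArg Subtype.val hj
      exact ⟨k, k1_inE k hk', h⟩
  exact ⟨E, hE, fun g => Iff.rfl⟩

theorem Pattern.small_false [IsSimpleGroup G] (hp : Pattern M false) (hG : Nat.card G = 1344) : False := by
  obtain ⟨E, hE, hmem⟩ := hp.inE_normal hG
  have hcardE : Nat.card E = 8 := by
    rw [Nat.card_congr (Equiv.subtypeEquivRight hmem), M.card_subset, inE_facts.1]
  rcases hE.eq_bot_or_eq_top with h | h <;> rw [h] at hcardE <;> simp at hcardE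
  omega

theorem Pattern.big_false (hp : Pattern M true) (hG : Nat.card G = 12096) : False := by
  classical
  have hK := card_class_mul_card_centralizer t
  rw [M.card_centralizer_t, hG] at hK
  have hK' : Nat.card {x : G // IsConj t x} = 63 := by omega
  let K := {x : G // IsConj t x}
  let P : K → Type _ := fun w => {p : K × K // (w : G) ∈ Subgroup.zpowers ((p.1 : G) * p.2)}
  have hPt : ∀ w : K, 64 ≤ Nat.card (P w) := by
    intro w
    obtain ⟨g, hg⟩ := isConj_iff.1 w.2
    have h0 := countT_zz
    rw [← Fintype.card_subtype, ← Nat.card_eq_fintype_card] at h0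
    refine h0.trans (Nat.card_le_card_of_injective (fun p => (⟨(⟨g * M.el p.1.1 * g⁻¹, ?_⟩,
      ⟨g * M.el p.1.2 * g⁻¹, ?_⟩), ?_⟩ : P w)) ?_)
    · have h := p.2
      simp only [Bool.and_eq_true] at h
      exact ((hp.first _).2 h.1.1).trans (isConj_iff.2 ⟨g, rfl⟩)
    · have h := p.2
      simp only [Bool.and_eq_true] at h
      exact ((hp.first _).2 h.1.2).trans (isConj_iff.2 ⟨g, rfl⟩)
    · have h := p.2
      simp only [Bool.and_eq_true] at h
      have h' := (M.mem_zpowers_el (p := fmul p.1.1 p.1.2) (w := 7)).2 h.2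
      rw [M.map_mul, M.map_seven] at h'
      obtain ⟨k, hk⟩ := Subgroup.mem_zpowers_iff.1 h'
      refine Subgroup.mem_zpowers_iff.2 ⟨k, ?_⟩
      show (MulAut.conj g (M.el p.1.1) * MulAut.conj g (M.el p.1.2)) ^ k = w
      rw [← _root_.map_mul, ← map_zpow, hk, MulAut.conj_apply, hg]
    · intro p q h
      have h' := congrArg (fun x : P w => ((x.1.1 : G), (x.1.2 : G))) h
      simp only [Prod.mk.injEq, mul_left_inj, mul_right_inj] at h'
      exact Subtype.ext (Prod.ext (M.inj h'.1) (M.inj h'.2))
  have hinj : Function.Injective (fun s : Σ w : K, P w => s.2.1) := by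
    rintro ⟨w, p, hwp⟩ ⟨w', p', hwp'⟩ h
    cases h
    have : w = w' := Subtype.ext (involution_in_powers_unique (sq_one_of_isConj w.2 M.mul_self)
      (fun e => M.ne_one (isConj_one_left.1 (e ▸ w.2))) (sq_one_of_isConj w'.2 M.mul_self)
      (fun e => M.ne_one (isConj_one_left.1 (e ▸ w'.2))) hwp hwp')
    subst this
    rfl
  have h1 := Nat.card_le_card_of_injective _ hinj
  haveI : Fintype K := Fintype.ofFinite _
  rw [Nat.card_sigma, Nat.card_prod, hK'] at h1
  have h2 : Finset.univ.card • 64 ≤ ∑ w : K, Nat.card (P w) :=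
    Finset.card_nsmul_le_sum _ _ _ fun w _ => hPt w
  rw [Finset.card_univ, ← Nat.card_eq_fintype_card, hK', smul_eq_mul] at h2
  omega

/-- the possible orders, without assuming simplicity -/
theorem Pattern.card_cases {b : Bool} (hp : Pattern M b) :
    (b = false ∧ Nat.card G = 1344) ∨ (b = true ∧ Nat.card G = 95040) := by
  have h := hp.card_eq
  rw [hp.count_t] at h
  rcases hp.cU_shape with ⟨rfl, hU⟩ | ⟨rfl, hcase⟩
  · rw [countF_z, hp.count_c_small hU, hU] at h
    exact Or.inl ⟨rfl, h⟩
  · rw [countT_z] at h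
    rcases hcase with ⟨hU, hX⟩ | ⟨hU, hX⟩
    · have hX24 : Nat.card M.cX = 24 := by have := M.card_cU; omega
      rw [hp.count_c_big hX (by rw [hX24]; norm_num), hU] at h
      exact (hp.big_false h).elim
    · have hX120 : Nat.card M.cX = 120 := by have := M.card_cU; omega
      rw [hp.count_c_big hX (by rw [hX120]), hU] at h
      exact Or.inr ⟨rfl, h⟩

theorem Model.card_eq_95040 [IsSimpleGroup G] (M : Model G t) (hG : ¬ IsMulCommutative G) :
    Nat.card G = 95040 := by
  obtain ⟨b, hp⟩ := M.exists_pattern hG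
  rcases hp.card_cases with ⟨rfl, h⟩ | ⟨-, h⟩
  · exact (hp.small_false h).elim
  · exact h

end CfsgLib.MTwelveCent
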