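import Cfsg.Agent.Lib.MTwelveCent.Model
import Mathlib.GroupTheory.Sylow
import Mathlib.GroupTheory.Nilpotent

/-!
Subgroups given by predicates on symbols, and a criterion for a 2-subgroup to be maximal.
-/
set_option autoImplicit false
set_option maxRecDepth 100000

namespace CfsgLib.MTwelveCent

/-- a 2-group containing `S` in which no further element normalises `S` equals `S` -/
theorem eq_of_pgroup_normalizing {G : Type*} [Group G] [Finite G] {p : ℕ} [Fact p.Prime]
    {S P : Subgroup G} (hP : IsPGroup p P) (hle : S ≤ P)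
    (h : ∀ n ∈ P, (∀ x, x ∈ S ↔ n * x * n⁻¹ ∈ S) → n ∈ S) : P = S := by
  by_contra hne
  have hlt : S.subgroupOf P < ⊤ := by
    refine lt_top_iff_ne_top.2 fun e => hne (le_antisymm ?_ hle)
    rw [← Subgroup.subgroupOf_eq_top]
    exact e
  haveI : Group.IsNilpotent ↥P := hP.isNilpotent
  obtain ⟨n, hn, hnS⟩ := SetLike.exists_of_lt (normalizerCondition_of_isNilpotent (S.subgroupOf P) hlt)
  refine hnS (h n.1 n.2 fun x => ⟨fun hx => ?_, fun hx => ?_⟩)
  · exact (Subgroup.mem_normalizer_iff.1 hn ⟨x, hle hx⟩).1 hx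
  · have hxP : x ∈ P := by
      have := P.mul_mem (P.mul_mem (P.inv_mem n.2) (hle hx)) n.2
      simpa [mul_assoc] using this
    exact (Subgroup.mem_normalizer_iff.1 hn ⟨x, hxP⟩).2 hx

/-- the inverse of a symbol -/
def finv (i : Fin 192) : Fin 192 :=
  ((List.range 192).find? fun j => mulN i.val j == 0).elim 0 (Fin.ofNat 192)

theorem fmul_finv : ∀ i : Fin 192, fmul i (finv i) = 0 := by decide +kernel

namespace Model

variable {G : Type*} [Group G] {t : G} (M : Model G t)

theorem el_finv (i : Fin 192) : M.el (finv i) = (M.el i)⁻¹ :=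
  eq_inv_of_mul_eq_one_right (by rw [← M.map_mul, fmul_finv, M.map_zero])

/-- the image of a predicate on symbols closed under products -/
def sub [Finite G] (P : ℕ → Bool) (h0 : P 0 = true)
    (hmul : (all192 fun i => all192 fun j => !P i || !P j || P (mulN i j)) = true) : Subgroup G where
  carrier := {g | ∃ i : Fin 192, P i = true ∧ M.el i = g}
  one_mem' := ⟨0, h0, M.map_zero⟩
  mul_mem' := by
    rintro a b ⟨i, hi, rfl⟩ ⟨j, hj, rfl⟩
    refine ⟨fmul i j, ?_, M.map_mul i j⟩
    have := all192_two (P := fun i j => !P i || !P j || P (mulN i j)) hmul i.isLt j.isLt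
    simpa [hi, hj, fmul_val] using this
  inv_mem' := by
    rintro a ⟨i, hi, rfl⟩
    have key : ∀ n : ℕ, ∃ j : Fin 192, P j = true ∧ M.el j = M.el i ^ n := by
      intro n
      induction n with
      | zero => exact ⟨0, h0, by rw [pow_zero, M.map_zero]⟩
      | succ n ih =>
        obtain ⟨j, hj, e⟩ := ih
        refine ⟨fmul j i, ?_, by rw [M.map_mul, e, pow_succ]⟩
        have := all192_two (P := fun i j => !P i || !P j || P (mulN i j)) hmul j.isLt i.isLt
        simpa [hi, hj, fmul_val] using this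
    obtain ⟨j, hj, e⟩ := key (orderOf (M.el i) - 1)
    refine ⟨j, hj, e.trans (eq_inv_of_mul_eq_one_left ?_)⟩
    rw [← pow_succ, Nat.sub_add_cancel (orderOf_pos (M.el i)), pow_orderOf_eq_one]

theorem el_mem_sub [Finite G] {P : ℕ → Bool} {h0 : P 0 = true}
    {hmul : (all192 fun i => all192 fun j => !P i || !P j || P (mulN i j)) = true} {i : Fin 192} :
    M.el i ∈ M.sub P h0 hmul ↔ P i = true :=
  ⟨fun ⟨j, hj, e⟩ => M.inj e ▸ hj, fun h => ⟨i, h, rfl⟩⟩

theorem sub_le [Finite G] {P : ℕ → Bool} {h0 : P 0 = true}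
    {hmul : (all192 fun i => all192 fun j => !P i || !P j || P (mulN i j)) = true} :
    ∀ g ∈ M.sub P h0 hmul, g * t = t * g := by
  rintro g ⟨i, -, rfl⟩
  exact M.commutes i

theorem card_subset (P : ℕ → Bool) :
    Nat.card {g : G // ∃ i : Fin 192, P i = true ∧ M.el i = g} = (List.range 192).countP P := by
  classical
  have e : {g : G // ∃ i : Fin 192, P i = true ∧ M.el i = g} ≃ {j : Fin 192 // P j.val = true} :=
    (Equiv.ofBijective (fun j : {j : Fin 192 // P j.val = true} =>
        (⟨M.el j.1, j.1, j.2, rfl⟩ : {g : G // ∃ i : Fin 192, P i = true ∧ M.el i = g}))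
      ⟨fun a b hab => Subtype.ext (M.inj (congrArg Subtype.val hab)),
        fun ⟨g, j, hj, hg⟩ => ⟨⟨j, hj⟩, Subtype.ext hg⟩⟩).symm
  rw [Nat.card_congr e, Nat.card_eq_fintype_card, Fintype.card_subtype,
    ← Finset.card_map Fin.valEmbedding]
  have : (Finset.univ.filter fun j : Fin 192 => P j.val = true).map Fin.valEmbedding =
      (Finset.range 192).filter fun j => P j = true := by
    ext j
    simp only [Finset.mem_map, Finset.mem_filter, Finset.mem_univ, true_and, Finset.mem_range]
    constructor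
    · rintro ⟨a, ha, rfl⟩
      exact ⟨a.isLt, ha⟩
    · exact fun h => ⟨⟨j, h.1⟩, h.2, rfl⟩
  rw [this, List.countP_eq_length_filter]
  simp [Finset.card, Finset.filter, Finset.range, Multiset.range]

theorem card_sub [Finite G] (P : ℕ → Bool) (h0 : P 0 = true)
    (hmul : (all192 fun i => all192 fun j => !P i || !P j || P (mulN i j)) = true) :
    Nat.card (M.sub P h0 hmul) = (List.range 192).countP P :=
  M.card_subset P

/-- the fixed Sylow 2-subgroup -/
def sylowSub [Finite G] : Subgroup G := M.sub inS inS_facts.2.1 inS_closed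

/-- its subgroup of index two -/
def halfSub [Finite G] : Subgroup G := M.sub inQ inQ_facts.2.2.1 inQ_closed

include M in
theorem ne_one : t ≠ 1 := by
  intro h
  have := M.eq_one_iff.1 (M.map_seven.trans h)
  exact absurd this (by decide)

include M in
theorem mul_self : t * t = 1 := by
  rw [← M.map_seven, M.sq_one_iff]
  decide +kernel

include M in
theorem order_two : orderOf t = 2 :=
  orderOf_eq_prime (by rw [pow_two, M.mul_self]) M.ne_one

theorem sylowSub_maximal [Finite G] {P : Subgroup G} (hP : IsPGroup 2 P) (hle : M.sylowSub ≤ P) :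
    P = M.sylowSub := by
  haveI : Fact (Nat.Prime 2) := ⟨Nat.prime_two⟩
  have hcardS : Nat.card M.sylowSub = 64 := (M.card_sub _ _ _).trans inS_facts.1
  refine eq_of_pgroup_normalizing hP hle fun n hn hnorm => ?_
  have htS : t ∈ M.sylowSub := ⟨7, inS_facts.2.2.1, M.map_seven⟩
  obtain ⟨i, hiS, hi⟩ := (hnorm t).1 htS
  have hcent : ∀ j : Fin 192, inS j = true → M.el i * M.el j = M.el j * M.el i := by
    intro j hj
    rw [hi]
    have hx : n⁻¹ * M.el j * n ∈ M.sylowSub :=
      (hnorm _).2 (by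
        have hm : M.el j ∈ M.sylowSub := ⟨j, hj, rfl⟩
        simpa [mul_assoc] using hm)
    have h := congrArg (fun x => n * x * n⁻¹) (M.sub_le _ hx)
    simp only [mul_assoc, inv_mul_cancel_left, mul_inv_cancel_left] at h ⊢
    simpa [mul_assoc] using h.symm
  have hh := all192_spec centre_ok i.isLt
  simp only [Bool.or_eq_true, beq_iff_eq, List.any_eq_true, Bool.and_eq_true, List.mem_range] at hh
  rcases hh with (h0 | h7) | ⟨j, hj, hS, hc⟩
  · exfalso
    have h1 : M.el i = 1 := M.eq_one_iff.2 (Fin.ext h0)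
    rw [hi] at h1
    exact M.ne_one (conj_eq_one_iff.1 h1)
  · have h1 : M.el i = t := (M.el_eq_iff.2 h7).trans M.map_seven
    rw [hi, mul_inv_eq_iff_eq_mul] at h1
    set C := P ⊓ Subgroup.centralizer ({t} : Set G) with hC
    have hCn : n ∈ C := ⟨hn, Subgroup.mem_centralizer_singleton_iff.2 h1⟩
    have hSC : M.sylowSub ≤ C := fun x hx =>
      ⟨hle hx, Subgroup.mem_centralizer_singleton_iff.2 (M.sub_le x hx)⟩
    have hcardT : Nat.card (Subgroup.centralizer ({t} : Set G)) = 192 := by
      have e : Fin 192 ≃ Subgroup.centralizer ({t} : Set G) := Equiv.ofBijective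
        (fun j => ⟨M.el j, Subgroup.mem_centralizer_singleton_iff.2 (M.commutes j)⟩)
        ⟨fun a b h => M.inj (congrArg Subtype.val h), fun ⟨g, hg⟩ => by
          obtain ⟨j, hj⟩ := (M.mem_iff g).1 (Subgroup.mem_centralizer_singleton_iff.1 hg)
          exact ⟨j, Subtype.ext hj⟩⟩
      rw [← Nat.card_congr e, Nat.card_eq_fintype_card, Fintype.card_fin]
    have hC2 : IsPGroup 2 C := hP.to_le inf_le_left
    obtain ⟨k, hk⟩ := IsPGroup.iff_card.1 hC2
    have hd : 2 ^ k ∣ 192 := hk ▸ hcardT ▸ Subgroup.card_dvd_of_le inf_le_right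
    have hk6 : k ≤ 6 := by
      by_contra hcon
      have : 2 ^ 7 ∣ 192 := (Nat.pow_dvd_pow 2 (by omega)).trans hd
      norm_num at this
    have hle6 : Nat.card C ≤ Nat.card M.sylowSub := by
      rw [hk, hcardS]
      exact (Nat.pow_le_pow_right (by norm_num) hk6).trans_eq (by norm_num)
    rw [Subgroup.eq_of_le_of_card_ge hSC hle6]
    exact hCn
  · exfalso
    have e := hcent ⟨j, hj⟩ hS
    rw [M.commute_iff] at e
    simp [e] at hc

/-- the fixed Sylow 2-subgroup as a Sylow subgroup -/
theorem exists_sylow [Finite G] : ∃ P : Sylow 2 G, (P : Subgroup G) = M.sylowSub := by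
  haveI : Fact (Nat.Prime 2) := ⟨Nat.prime_two⟩
  have h2 : IsPGroup 2 M.sylowSub :=
    IsPGroup.of_card (n := 6) ((M.card_sub _ _ _).trans (inS_facts.1.trans (by norm_num)))
  obtain ⟨P, hP⟩ := h2.exists_le_sylow
  exact ⟨P, M.sylowSub_maximal P.2 hP⟩

end Model

end CfsgLib.MTwelveCent
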